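import Groth.Agent.Lib.Dim.Basic
import Groth.Agent.Lib.Zeta.ArithScheme
import Mathlib.RingTheory.Localization.Away.Basic
import Mathlib.RingTheory.KrullDimension.NonZeroDivisors
import Mathlib.FieldTheory.IntermediateField.Adjoin.Algebra
import Mathlib.Analysis.Real.Sqrt

/-!
The number of points of affine models of the same function field agrees up to `O(q^(n-1))`.
-/

set_option autoImplicit false
set_option linter.style.haveILetI false

namespace Groth.Agent.Lib.LangWeil.Birational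

universe u

variable {k : Type u} [Field k] [Finite k]

/-- Points in finite extensions. -/
theorem exists_bound (A : Type u) [CommRing A] [Algebra k A] [Algebra.FiniteType k A] (r : ℕ)
    (hr : ringKrullDim A ≤ r) :
    ∃ C : ℕ, ∀ (F : Type u) [Field F] [Algebra k F] [Finite F],
      Finite (A →ₐ[k] F) ∧ Nat.card (A →ₐ[k] F) ≤ C * Nat.card F ^ r := by
  haveI : Algebra.FiniteType ℤ A := by
    rw [← RingHom.finiteType_algebraMap, RingHom.ext_int (algebraMap ℤ A)
      ((algebraMap k A).comp (Int.castRingHom k))]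
    exact (RingHom.finiteType_algebraMap.2 inferInstance).comp
      (RingHom.finiteType_algebraMap.2 (inferInstance : Algebra.FiniteType ℤ k))
  obtain ⟨C, p₀, hC⟩ := Zeta.ArithScheme.exists_bound_affine.{u, u} A r hr
  refine ⟨C, fun F _ _ hF => ?_⟩
  haveI := Zeta.PointBound.finite_hom A F
  exact ⟨Finite.of_injective _ AlgHom.coe_ringHom_injective,
    (Nat.card_le_card_of_injective _ AlgHom.coe_ringHom_injective).trans (hC F hF).1⟩

/-- The points at which a nonzero function vanishes. -/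
theorem exists_bound_zero (A : Type u) [CommRing A] [IsDomain A] [Algebra k A] [Algebra.FiniteType k A]
    (n : ℕ) (hn : ringKrullDim A ≤ n) (f : A) (hf : f ≠ 0) :
    ∃ C : ℕ, ∀ (F : Type u) [Field F] [Algebra k F] [Finite F],
      Nat.card F * Nat.card {φ : A →ₐ[k] F // φ f = 0} ≤ C * Nat.card F ^ n := by
  rcases n with _ | n
  · -- dimension zero: a field
    refine ⟨0, fun F _ _ _ => ?_⟩
    haveI : Ring.KrullDimLE 0 A := Ring.krullDimLE_iff.2 hn
    have hu : IsUnit f := (Ring.KrullDimLE.isField_of_isDomain (R := A)).mul_inv_cancel hf |>.elim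
      fun g hg => IsUnit.of_mul_eq_one g hg
    haveI : IsEmpty {φ : A →ₐ[k] F // φ f = 0} := ⟨fun φ => (hu.map φ.1).ne_zero φ.2⟩
    simp
  · have hd : ringKrullDim (A ⧸ Ideal.span {f}) ≤ n := by
      have h := (ringKrullDim_quotient_succ_le_of_nonZeroDivisor (mem_nonZeroDivisors_of_ne_zero hf)).trans hn
      rw [Nat.cast_add, Nat.cast_one] at h
      exact ENat.WithBot.add_le_add_one_right_iff.1 h
    obtain ⟨C, hC⟩ := exists_bound (k := k) (A ⧸ Ideal.span {f}) n hd
    refine ⟨C, fun F _ _ _ => ?_⟩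
    haveI := (hC F).1
    have h : Nat.card {φ : A →ₐ[k] F // φ f = 0} ≤ Nat.card (A ⧸ Ideal.span {f} →ₐ[k] F) := by
      refine Nat.card_le_card_of_injective (fun φ => Ideal.Quotient.liftₐ _ φ.1 fun a ha => ?_)
        fun φ ψ h => Subtype.ext (AlgHom.ext fun a => ?_)
      · obtain ⟨b, rfl⟩ := Ideal.mem_span_singleton'.1 ha
        rw [map_mul, φ.2, mul_zero]
      · exact AlgHom.congr_fun h (Ideal.Quotient.mk _ a)
    refine (Nat.mul_le_mul_left _ (h.trans (hC F).2)).trans_eq ?_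
    ring

/-- Homomorphisms as zero and non-zero locus of `f`. -/
theorem card_split (A : Type u) [CommRing A] [Algebra k A] [Algebra.FiniteType k A] (f : A) (r : ℕ)
    (hr : ringKrullDim A ≤ r) (F : Type u) [Field F] [Algebra k F] [Finite F] :
    Nat.card (A →ₐ[k] F) = Nat.card {φ : A →ₐ[k] F // φ f = 0} + Nat.card {φ : A →ₐ[k] F // φ f ≠ 0} := by
  classical
  obtain ⟨C, hC⟩ := exists_bound (k := k) A r hr
  haveI := (hC F).1
  rw [← Nat.card_sum, Nat.card_congr (Equiv.sumCompl fun φ : A →ₐ[k] F => φ f = 0)]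

variable {K : Type u} [Field K] [Algebra k K]

/-- An affine model of `K`. -/
def IsModel (A : Subalgebra k K) : Prop :=
  A.FG ∧ IntermediateField.adjoin k (A : Set K) = ⊤

theorem IsModel.exists_div {A : Subalgebra k K} (hA : IsModel A) (z : K) :
    ∃ a b : A, b ≠ 0 ∧ z * (b : K) = a := by
  have hz : z ∈ IntermediateField.adjoin k (A : Set K) := hA.2 ▸ IntermediateField.mem_top
  obtain ⟨r, hr, s, hs, rfl⟩ := IntermediateField.mem_adjoin_iff_div.1 hz
  rw [Algebra.adjoin_eq] at hr hs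
  rcases eq_or_ne s 0 with rfl | hs0
  · exact ⟨0, 1, one_ne_zero, by simp⟩
  · exact ⟨⟨r, hr⟩, ⟨s, hs⟩, fun h => hs0 (congrArg Subtype.val h), div_mul_cancel₀ r hs0⟩

theorem IsModel.isFractionRing {A : Subalgebra k K} (hA : IsModel A) : IsFractionRing A K :=
  IsFractionRing.of_field A K fun z => by
    obtain ⟨a, b, hb, hab⟩ := hA.exists_div z
    exact ⟨a, b, (eq_div_iff (show (b : K) ≠ 0 from fun h => hb (Subtype.ext h))).2 hab⟩

theorem IsModel.finiteType {A : Subalgebra k K} (hA : IsModel A) : Algebra.FiniteType k A :=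
  A.fg_iff_finiteType.1 hA.1

theorem IsModel.ringKrullDim_eq {A : Subalgebra k K} (hA : IsModel A) (n : ℕ)
    (hn : Algebra.trdeg k K = n) : ringKrullDim A = n := by
  haveI := hA.finiteType
  haveI := hA.isFractionRing
  obtain ⟨s, g, -, -, h1, h2⟩ := Dim.Basic.exists_noether k A
  haveI : Algebra.IsAlgebraic A K := IsLocalization.isAlgebraic K (nonZeroDivisors A)
  have h := lift_trdeg_add_eq k A K
  rw [trdeg_eq_zero (R := A) (A := K), h1, Cardinal.lift_zero, add_zero, hn] at h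
  rw [h2]
  have : s = n := by simpa using h
  rw [this]

theorem compare_le {A B : Subalgebra k K} (hA : IsModel A) (hB : IsModel B) (hAB : A ≤ B) (n : ℕ)
    (hn : Algebra.trdeg k K = n) :
    ∃ C : ℝ, ∀ (F : Type u) [Field F] [Algebra k F] [Finite F],
      |(Nat.card (A →ₐ[k] F) : ℝ) - Nat.card (B →ₐ[k] F)| * Nat.card F ≤ C * (Nat.card F : ℝ) ^ n := by
  classical
  haveI := hA.finiteType
  haveI := hB.finiteType
  obtain ⟨S, hS⟩ := hB.1
  choose num den hden hnum using hA.exists_div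
  let e : A := ∏ z ∈ S, den z
  have he : e ≠ 0 := Finset.prod_ne_zero_iff.2 fun z _ => hden z
  have heK : (e : K) ≠ 0 := fun h => he (Subtype.ext h)
  let eB : B := Subalgebra.inclusion hAB e
  have heB : eB ≠ 0 := fun h => heK (congrArg Subtype.val h)
  obtain ⟨CA, hCA⟩ := exists_bound_zero (k := k) A n (hA.ringKrullDim_eq n hn).le e he
  obtain ⟨CB, hCB⟩ := exists_bound_zero (k := k) B n (hB.ringKrullDim_eq n hn).le eB heB
  -- the common localisation
  let T := Localization.Away e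
  have hunit : ∀ u : Submonoid.powers e, IsUnit (A.val u) := by
    rintro ⟨_, j, rfl⟩
    rw [map_pow]
    exact (Ne.isUnit heK).pow j
  let τ : T →ₐ[k] K := IsLocalization.liftAlgHom (M := Submonoid.powers e) (f := A.val) hunit
  have hτ : Function.Injective τ := by
    rw [injective_iff_map_eq_zero]
    intro z hz
    obtain ⟨r, u, rfl⟩ := IsLocalization.exists_mk'_eq (Submonoid.powers e) z
    rw [IsLocalization.coe_liftAlgHom, IsLocalization.lift_mk'_spec, mul_zero] at hz
    have hr : r = 0 := Subtype.ext hz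
    rw [hr, IsLocalization.mk'_zero]
  have hτA : ∀ a : A, τ (algebraMap A T a) = a := fun a => IsLocalization.lift_eq _ a
  have hBT : B ≤ τ.range := by
    rw [← hS, Algebra.adjoin_le_iff]
    intro z hz
    refine ⟨IsLocalization.mk' T (num z * ∏ w ∈ S.erase z, den w) ⟨e, Submonoid.mem_powers e⟩, ?_⟩
    rw [AlgHom.toRingHom_eq_coe, RingHom.coe_coe, IsLocalization.coe_liftAlgHom, IsLocalization.lift_mk'_spec]
    show ((num z * ∏ w ∈ S.erase z, den w : A) : K) = (e : K) * z
    simp only [e, ← Finset.mul_prod_erase S den hz, Subalgebra.coe_mul, ← hnum z]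
    ring
  let ν : B →ₐ[k] T := (AlgEquiv.ofInjective τ hτ).symm.toAlgHom.comp (Subalgebra.inclusion hBT)
  have hν : ∀ p, τ (ν p) = p := fun p =>
    congrArg Subtype.val ((AlgEquiv.ofInjective τ hτ).apply_symm_apply _)
  have hνA : ∀ a : A, ν (Subalgebra.inclusion hAB a) = algebraMap A T a := fun a =>
    hτ (by rw [hν, hτA]; rfl)
  refine ⟨CA + CB, fun F _ _ _ => ?_⟩
  have hbij : Nat.card {φ : B →ₐ[k] F // φ eB ≠ 0} = Nat.card {φ : A →ₐ[k] F // φ e ≠ 0} := by
    refine Nat.card_congr (Equiv.ofBijective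
      (fun φ => ⟨φ.1.comp (Subalgebra.inclusion hAB), φ.2⟩) ⟨?_, ?_⟩)
    · intro φ φ' h
      refine Subtype.ext (AlgHom.ext fun b => ?_)
      obtain ⟨⟨a, ⟨_, j, rfl⟩⟩, hab⟩ := IsLocalization.surj (Submonoid.powers e) (ν b)
      have hb : b * Subalgebra.inclusion hAB (e ^ j) = Subalgebra.inclusion hAB a := by
        have h2 := congrArg τ hab
        rw [map_mul, hν, hτA, hτA] at h2
        exact Subtype.ext h2
      have hres : ∀ a : A, φ.1 (Subalgebra.inclusion hAB a) = φ'.1 (Subalgebra.inclusion hAB a) :=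
        fun a => AlgHom.congr_fun (congrArg Subtype.val h) a
      have h3 := congrArg φ.1 hb
      rw [map_mul, hres, hres a, ← hb, map_mul φ'.1] at h3
      refine mul_right_cancel₀ ?_ h3
      rw [map_pow, map_pow]
      exact pow_ne_zero _ φ'.2
    · rintro ⟨ψ, hψ⟩
      let L : T →+* F := IsLocalization.Away.lift (g := ψ.toRingHom) e (Ne.isUnit hψ)
      have hL : ∀ a : A, L (algebraMap A T a) = ψ a := fun a => IsLocalization.Away.lift_eq e _ a
      let φ : B →ₐ[k] F :=
        { L.comp ν.toRingHom with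
          commutes' := fun c => by
            show L (ν (algebraMap k B c)) = _
            rw [ν.commutes, IsScalarTower.algebraMap_apply k A T, hL, ψ.commutes] }
      have hφ : ∀ a : A, φ (Subalgebra.inclusion hAB a) = ψ a := fun a => by
        show L (ν (Subalgebra.inclusion hAB a)) = _
        rw [hνA, hL]
      exact ⟨⟨φ, by rw [hφ]; exact hψ⟩, Subtype.ext (AlgHom.ext hφ)⟩
  rw [card_split A e n (hA.ringKrullDim_eq n hn).le F, card_split B eB n (hB.ringKrullDim_eq n hn).le F, hbij]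
  push_cast
  have h1 : (Nat.card F : ℝ) * Nat.card {φ : A →ₐ[k] F // φ e = 0} ≤ CA * (Nat.card F : ℝ) ^ n := by
    exact_mod_cast hCA F
  have h2 : (Nat.card F : ℝ) * Nat.card {φ : B →ₐ[k] F // φ eB = 0} ≤ CB * (Nat.card F : ℝ) ^ n := by
    exact_mod_cast hCB F
  have h3 : (0 : ℝ) ≤ Nat.card F := Nat.cast_nonneg _
  rcases abs_choice ((Nat.card {φ : A →ₐ[k] F // φ e = 0} : ℝ) + Nat.card {φ : A →ₐ[k] F // φ e ≠ 0} -
    (Nat.card {φ : B →ₐ[k] F // φ eB = 0} + Nat.card {φ : A →ₐ[k] F // φ e ≠ 0})) with h | h <;>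
  · rw [h]
    nlinarith [mul_nonneg h3 (Nat.cast_nonneg (α := ℝ) (Nat.card {φ : A →ₐ[k] F // φ e = 0})),
      mul_nonneg h3 (Nat.cast_nonneg (α := ℝ) (Nat.card {φ : B →ₐ[k] F // φ eB = 0}))]

theorem IsModel.sup {A B : Subalgebra k K} (hA : IsModel A) (hB : IsModel B) : IsModel (A ⊔ B) :=
  ⟨hA.1.sup hB.1, top_le_iff.1 (hA.2.symm.le.trans (IntermediateField.adjoin.mono k _ _
    (SetLike.coe_subset_coe.2 le_sup_left)))⟩

/-- Two affine models of `K` have equally many points up to `O(q^(n-1))`. -/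
theorem compare {A B : Subalgebra k K} (hA : IsModel A) (hB : IsModel B) (n : ℕ)
    (hn : Algebra.trdeg k K = n) :
    ∃ C : ℝ, ∀ (F : Type u) [Field F] [Algebra k F] [Finite F],
      |(Nat.card (A →ₐ[k] F) : ℝ) - Nat.card (B →ₐ[k] F)| * Nat.card F ≤ C * (Nat.card F : ℝ) ^ n := by
  obtain ⟨C₁, h₁⟩ := compare_le hA (hA.sup hB) le_sup_left n hn
  obtain ⟨C₂, h₂⟩ := compare_le hB (hA.sup hB) le_sup_right n hn
  refine ⟨C₁ + C₂, fun F _ _ _ => ?_⟩
  have := abs_sub_le (Nat.card (A →ₐ[k] F) : ℝ) (Nat.card ((A ⊔ B : Subalgebra k K) →ₐ[k] F))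
    (Nat.card (B →ₐ[k] F))
  rw [abs_sub_comm (Nat.card ((A ⊔ B : Subalgebra k K) →ₐ[k] F) : ℝ) (Nat.card (B →ₐ[k] F))] at this
  have h3 := mul_le_mul_of_nonneg_right this (Nat.cast_nonneg (α := ℝ) (Nat.card F))
  have h4 := h₁ F
  have h5 := h₂ F
  nlinarith

/-- The `O(q^(n-1/2))` form of the estimate passes from one model to another. -/
theorem transfer {A B : Subalgebra k K} (hA : IsModel A) (hB : IsModel B) (n : ℕ)
    (hn : Algebra.trdeg k K = n)
    (hest : ∃ α : ℝ, ∀ (F : Type u) [Field F] [Algebra k F] [Finite F],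
      |(Nat.card (A →ₐ[k] F) : ℝ) - (Nat.card F : ℝ) ^ n| * Real.sqrt (Nat.card F) ≤
        α * (Nat.card F : ℝ) ^ n) :
    ∃ α : ℝ, ∀ (F : Type u) [Field F] [Algebra k F] [Finite F],
      |(Nat.card (B →ₐ[k] F) : ℝ) - (Nat.card F : ℝ) ^ n| * Real.sqrt (Nat.card F) ≤
        α * (Nat.card F : ℝ) ^ n := by
  obtain ⟨α, hα⟩ := hest
  obtain ⟨C, hC⟩ := compare hB hA n hn
  refine ⟨C + α, fun F _ _ _ => ?_⟩
  have h1 := hC F
  have h2 := hα F
  have hs : Real.sqrt (Nat.card F) ≤ Nat.card F := by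
    refine Real.sqrt_le_self_iff.2 (Or.inr ?_)
    exact_mod_cast Finite.one_lt_card.le
  have h3 := mul_le_mul_of_nonneg_left hs
    (abs_nonneg ((Nat.card (B →ₐ[k] F) : ℝ) - Nat.card (A →ₐ[k] F)))
  have h4 := mul_le_mul_of_nonneg_right (abs_sub_le (Nat.card (B →ₐ[k] F) : ℝ) (Nat.card (A →ₐ[k] F))
    ((Nat.card F : ℝ) ^ n)) (Real.sqrt_nonneg (Nat.card F : ℝ))
  rw [add_mul] at h4
  rw [add_mul]
  linarith

end Groth.Agent.Lib.LangWeil.Birational
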