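import Groth.Agent.Lib.LangWeil.Constants
import Groth.Agent.Lib.Zeta.Points
import Groth.Agent.Lib.Zeta.FiniteBase
import Groth.Agent.Lib.AffineCompl.Dim
import Groth.Agent.Lib.SchTopo.Basic
import Groth.Agent.S2525
import Mathlib.AlgebraicGeometry.IdealSheaf.Functorial

/-!
Points of a scheme over a finite field in the generic part of one irreducible component, and in a
nowhere dense closed part.
-/

set_option autoImplicit false
set_option linter.style.haveILetI false

universe u

open CategoryTheory CategoryTheory.Limits AlgebraicGeometry TopologicalSpace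

namespace Groth.Agent.Lib.LangWeil.Components

open Groth.Agent.Lib.Zeta

theorem preimage_mem {X Y : Type*} [TopologicalSpace X] [TopologicalSpace Y] (h : X ≃ₜ Y) (T : Set Y)
    (hT : T ∈ irreducibleComponents Y) : h ⁻¹' T ∈ irreducibleComponents X :=
  preimage_mem_irreducibleComponents hT h.isOpenEmbedding (by
    rw [h.surjective.range_eq, Set.inter_univ]; exact hT.1.1)

theorem card_irreducibleComponents_congr {X Y : Type*} [TopologicalSpace X] [TopologicalSpace Y]
    (h : X ≃ₜ Y) : Nat.card (irreducibleComponents X) = Nat.card (irreducibleComponents Y) :=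
  Nat.card_congr
    { toFun := fun T => ⟨h.symm ⁻¹' T.1, preimage_mem h.symm T.1 T.2⟩
      invFun := fun T => ⟨h ⁻¹' T.1, preimage_mem h T.1 T.2⟩
      left_inv := fun T => Subtype.ext (by ext x; simp)
      right_inv := fun T => Subtype.ext (by ext x; simp) }

variable {k : Type u} [Field k] {X : Scheme.{u}} (f : X ⟶ Spec (CommRingCat.of k))

/-- The number of `F`-points lying in a set. -/
noncomputable def countIn (F : Type u) [Field F] [Algebra k F] (S : Set X) : ℕ :=
  Nat.card {g : {g : Spec (CommRingCat.of F) ⟶ X //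
    g ≫ f = Spec.map (CommRingCat.ofHom (algebraMap k F))} // g.1 (IsLocalRing.closedPoint F) ∈ S}

/-- The number of geometric components over a closed subset. -/
noncomputable def geomCount (Z : Set X) : ℕ :=
  Nat.card (irreducibleComponents ((pullback.fst f (Spec.map (CommRingCat.ofHom
    (algebraMap k (AlgebraicClosure k))))).base ⁻¹' Z))

theorem countIn_affine (F : Type u) [Field F] [Algebra k F] {V : X.Opens} (hV : IsAffineOpen V)
    (ψ : CommRingCat.of k ⟶ Γ(X, V)) (hψ : Spec.map ψ = hV.fromSpec ≫ f) :
    letI := ψ.hom.toAlgebra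
    countIn f F (V : Set X) = Nat.card (Γ(X, V) →ₐ[k] F) := by
  letI := ψ.hom.toAlgebra
  symm
  refine Nat.card_eq_of_bijective (fun φ =>
    ⟨⟨Spec.map (CommRingCat.ofHom φ.toRingHom) ≫ hV.fromSpec, ?_⟩, ?_⟩) ⟨?_, ?_⟩
  · rw [Category.assoc, ← hψ, ← Spec.map_comp]
    exact congrArg Spec.map (CommRingCat.hom_ext (RingHom.ext fun a => φ.commutes a))
  · show (Spec.map (CommRingCat.ofHom φ.toRingHom) ≫ hV.fromSpec) (IsLocalRing.closedPoint F) ∈ (V : Set X)
    rw [← hV.range_fromSpec]
    exact ⟨_, rfl⟩
  · intro φ φ' h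
    have h1 := congrArg Subtype.val (congrArg Subtype.val h)
    simp only [cancel_mono] at h1
    exact AlgHom.ext (RingHom.congr_fun (congrArg CommRingCat.Hom.hom (Spec.map_injective h1)))
  · rintro ⟨⟨g, hg⟩, hgV⟩
    have hr : Set.range g ⊆ Set.range hV.fromSpec := by
      rw [hV.range_fromSpec]
      rintro _ ⟨t, rfl⟩
      rw [Subsingleton.elim t (IsLocalRing.closedPoint F)]
      exact hgV
    refine ⟨{ (Spec.preimage (IsOpenImmersion.lift hV.fromSpec g hr)).hom with
      commutes' := fun a => ?_ }, Subtype.ext (Subtype.ext ?_)⟩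
    · have h : ψ ≫ Spec.preimage (IsOpenImmersion.lift hV.fromSpec g hr) =
          CommRingCat.ofHom (algebraMap k F) := by
        apply Spec.map_injective
        rw [Spec.map_comp, Spec.map_preimage, hψ, IsOpenImmersion.lift_fac_assoc, hg]
      exact ConcreteCategory.congr_hom h a
    · show Spec.map (Spec.preimage (IsOpenImmersion.lift hV.fromSpec g hr)) ≫ hV.fromSpec = g
      rw [Spec.map_preimage, IsOpenImmersion.lift_fac]

variable [LocallyOfFiniteType f]

/-- The degree of the field of constants is the number of geometric components. -/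
theorem geomCount_eq [Finite k] {Y : Scheme.{u}} (i : Y ⟶ X) [IsClosedImmersion i] [IrreducibleSpace Y]
    (hfin : letI := (Points.resMap f (i (genericPoint Y))).hom.toAlgebra
      FiniteDimensional k (algebraicClosure k (X.residueField (i (genericPoint Y))))) :
    letI := (Points.resMap f (i (genericPoint Y))).hom.toAlgebra
    geomCount f (Set.range i) =
      Module.finrank k (algebraicClosure k (X.residueField (i (genericPoint Y)))) := by
  letI := (Points.resMap f (i (genericPoint Y))).hom.toAlgebra
  haveI := hfin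
  -- the fibre over the component
  let g := Spec.map (CommRingCat.ofHom (algebraMap k (AlgebraicClosure k)))
  have h1 : geomCount f (Set.range i) = Nat.card (irreducibleComponents ↥(FBase.bc (i ≫ f) (AlgebraicClosure k))) := by
    have e1 : (pullback i (pullback.fst f g) : Scheme.{u}) ≃ₜ Set.range (pullback.snd i (pullback.fst f g)) :=
      (pullback.snd i (pullback.fst f g)).isClosedEmbedding.isEmbedding.toHomeomorph
    have e2 : Set.range (pullback.snd i (pullback.fst f g)) = (pullback.fst f g).base ⁻¹' Set.range i :=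
      Scheme.Pullback.range_snd i (pullback.fst f g)
    exact card_irreducibleComponents_congr
      (((Homeomorph.setCongr e2).symm.trans e1.symm).trans
        (Scheme.homeoOfIso (pullbackRightPullbackFstIso f g i)))
  obtain ⟨φ, hφ, hcount⟩ := S2525.result (k'' := AlgebraicClosure k) (i ≫ f)
  have hφ' : CommRingCat.ofHom φ = Points.resMap (i ≫ f) (genericPoint Y) :=
    Spec.map_injective (hφ.trans (Points.specMap_resMap (i ≫ f) _).symm)
  letI := φ.toAlgebra
  let σ : X.residueField (i (genericPoint Y)) ≃ₐ[k] Y.residueField (genericPoint Y) :=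
    { RingEquiv.ofBijective (i.residueFieldMap (genericPoint Y)).hom
        (Points.bijective_residueFieldMap i _) with
      commutes' := fun a => by
        have h := ConcreteCategory.congr_hom (hφ'.trans (Points.resMap_comp f i (genericPoint Y))) a
        exact h.symm }
  have hsep : ∀ (L : Type u) [Field L] [Algebra k L], separableClosure k L = algebraicClosure k L := by
    intro L _ _
    refine le_antisymm (fun z hz => mem_algebraicClosure_iff.2 (mem_separableClosure_iff.1 hz).isIntegral.isAlgebraic)
      fun z hz => ?_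
    have hz' : IsIntegral k z := isAlgebraic_iff_isIntegral.1 (mem_algebraicClosure_iff.1 hz)
    exact mem_separableClosure_iff.2 (PerfectField.separable_of_irreducible (minpoly.irreducible hz'))
  have e : separableClosure k (X.residueField (i (genericPoint Y))) ≃ₐ[k]
      separableClosure k (Y.residueField (genericPoint Y)) := separableClosure.algEquivOfAlgEquiv σ
  haveI : FiniteDimensional k (separableClosure k (X.residueField (i (genericPoint Y)))) := by
    rw [hsep]; infer_instance
  haveI : FiniteDimensional k (separableClosure k (Y.residueField (genericPoint Y))) :=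
    e.toLinearEquiv.finiteDimensional
  rw [h1, hcount inferInstance ⟨IsAlgClosed.lift⟩, ← e.toLinearEquiv.finrank_eq]
  rw [hsep]

omit [LocallyOfFiniteType f] in
theorem specMap_evaluation {V : X.Opens} (hV : IsAffineOpen V) (x : X) (hx : x ∈ V) :
    Spec.map (X.evaluation V x hx) ≫ hV.fromSpec = X.fromSpecResidueField x := by
  rw [← Scheme.germ_residue, Spec.map_comp, Category.assoc, Scheme.fromSpecResidueField,
    ← hV.fromSpecStalk_eq_fromSpecStalk hx, IsAffineOpen.fromSpecStalk]

/-- The points in an affine piece of a component of dimension `r`. -/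
theorem estimate [Finite k] (Z : Set X) (hZc : IsClosed Z) (hZi : IsIrreducible Z) (r : ℕ)
    (hZd : topologicalKrullDim Z = r) {V : X.Opens} (hV : IsAffineOpen V) (hVZ : (V : Set X) ⊆ Z)
    (hne : (V : Set X).Nonempty) :
    0 < geomCount f Z ∧ ∃ α : ℝ, ∀ (F : Type u) [Field F] [Algebra k F] [Finite F],
      (geomCount f Z ∣ Module.finrank k F →
        |(countIn f F (V : Set X) : ℝ) - geomCount f Z * (Nat.card F : ℝ) ^ r| * Real.sqrt (Nat.card F) ≤
          α * (Nat.card F : ℝ) ^ r) ∧
      (¬ geomCount f Z ∣ Module.finrank k F →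
        (countIn f F (V : Set X) : ℝ) * Nat.card F ≤ α * (Nat.card F : ℝ) ^ r) := by
  classical
  let i := (Scheme.IdealSheafData.vanishingIdeal ⟨Z, hZc⟩).subschemeι
  have hrange : Set.range i = Z := by
    rw [Scheme.IdealSheafData.range_subschemeι, Scheme.IdealSheafData.coe_support_vanishingIdeal]
    rfl
  let eZ : (Scheme.IdealSheafData.vanishingIdeal ⟨Z, hZc⟩).subscheme ≃ₜ Z :=
    i.isClosedEmbedding.isEmbedding.toHomeomorph.trans (Homeomorph.setCongr hrange)
  haveI : IrreducibleSpace Z := isIrreducible_iff_irreducibleSpace.1 hZi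
  haveI : IrreducibleSpace (Scheme.IdealSheafData.vanishingIdeal ⟨Z, hZc⟩).subscheme :=
    eZ.symm.surjective.irreducibleSpace eZ.symm.continuous
  -- the generic point
  set ξ := genericPoint (Scheme.IdealSheafData.vanishingIdeal ⟨Z, hZc⟩).subscheme
  set η := i ξ
  have hgen : ∀ (O : X.Opens), ((O : Set X) ∩ Z).Nonempty → η ∈ O := by
    rintro O ⟨x, hxO, hxZ⟩
    rw [← hrange] at hxZ
    obtain ⟨y, rfl⟩ := hxZ
    exact ((genericPoint_specializes y).map i.continuous).mem_open O.2 hxO
  have hηV : η ∈ V := hgen V (by rwa [Set.inter_eq_left.2 hVZ])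
  obtain ⟨ψ, hψ⟩ : ∃ ψ : CommRingCat.of k ⟶ Γ(X, V), Spec.map ψ = hV.fromSpec ≫ f :=
    ⟨_, Spec.map_preimage _⟩
  letI := ψ.hom.toAlgebra
  letI := (Points.resMap f η).hom.toAlgebra
  haveI : Algebra.FiniteType k Γ(X, V) := by
    show ψ.hom.FiniteType
    rw [← HasRingHomProperty.Spec_iff (P := @LocallyOfFiniteType), hψ]
    infer_instance
  -- restriction to the generic point
  let ev : Γ(X, V) →ₐ[k] X.residueField η :=
    { (X.evaluation V η hηV).hom with
      commutes' := fun a => by
        have h : ψ ≫ X.evaluation V η hηV = Points.resMap f η := by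
          apply Spec.map_injective
          rw [Spec.map_comp, hψ, ← Category.assoc, specMap_evaluation hV η hηV, Points.specMap_resMap]
        exact ConcreteCategory.congr_hom h a }
  have hker : ∀ a, ev a = 0 ↔ IsNilpotent a := fun a => by
    rw [Scheme.isNilpotent_iff_basicOpen_eq_bot_of_isCompact hV.isCompact]
    refine (X.evaluation_eq_zero_iff_notMem_basicOpen η hηV a).trans
      ⟨fun h => ?_, fun h => by simp [h]⟩
    by_contra hne'
    obtain ⟨x, hx⟩ := Opens.coe_eq_empty.not.2 hne' |> Set.nonempty_iff_ne_empty.2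
    exact h (hgen _ ⟨x, hx, hVZ (X.basicOpen_le a hx)⟩)
  have hsurj : ∀ z : X.residueField η, ∃ a b : Γ(X, V), ev b ≠ 0 ∧ z * ev b = ev a := by
    intro z
    obtain ⟨s, rfl⟩ := X.residue_surjective η z
    letI := TopCat.Presheaf.algebra_section_stalk X.presheaf (U := V) ⟨η, hηV⟩
    haveI := hV.isLocalization_stalk ⟨η, hηV⟩
    obtain ⟨⟨a, b⟩, hab⟩ := IsLocalization.surj (hV.primeIdealOf ⟨η, hηV⟩).asIdeal.primeCompl s
    refine ⟨a, b, ?_, ?_⟩
    · have hu : IsUnit (X.presheaf.germ V η hηV b.1) := IsLocalization.map_units (X.presheaf.stalk η) b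
      exact (hu.map (X.residue η).hom).ne_zero
    · exact ((X.residue η).hom.map_mul s _).symm.trans (congrArg (X.residue η).hom hab)
  let A := ev.range
  haveI : Algebra.FiniteType k A :=
    (inferInstance : Algebra.FiniteType k Γ(X, V)).of_surjective ev.rangeRestrict ev.rangeRestrict_surjective
  have hA : Birational.IsModel A := by
    refine ⟨A.fg_iff_finiteType.2 inferInstance, top_le_iff.1 fun z _ => ?_⟩
    obtain ⟨a, b, hb, hab⟩ := hsurj z
    rw [eq_div_iff hb |>.2 hab]
    exact div_mem (IntermediateField.subset_adjoin k _ ⟨a, rfl⟩)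
      (IntermediateField.subset_adjoin k _ ⟨b, rfl⟩)
  -- homomorphisms into fields kill nilpotents
  have hhoms : ∀ (F : Type u) [Field F] [Algebra k F],
      Nat.card (A →ₐ[k] F) = Nat.card (Γ(X, V) →ₐ[k] F) := by
    intro F _ _
    have hfac : ∀ φ : Γ(X, V) →ₐ[k] F, ∀ a, ev a = 0 → φ a = 0 := fun φ a ha =>
      (((hker a).1 ha).map φ).eq_zero
    refine Nat.card_eq_of_bijective (fun φ => φ.comp ev.rangeRestrict) ⟨fun φ φ' h => ?_, fun φ => ?_⟩
    · exact AlgHom.ext fun a => by
        obtain ⟨b, rfl⟩ := ev.rangeRestrict_surjective a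
        exact AlgHom.congr_fun h b
    · have hk : ∀ a ∈ RingHom.ker ev, φ a = 0 := fun a ha => hfac φ a ha
      refine ⟨(Ideal.Quotient.liftₐ (RingHom.ker ev) φ hk).comp
        (Ideal.quotientKerEquivRange ev).symm.toAlgHom, AlgHom.ext fun a => ?_⟩
      have : (Ideal.quotientKerEquivRange ev).symm (ev.rangeRestrict a) = Ideal.Quotient.mk _ a :=
        (AlgEquiv.symm_apply_eq _).2 (Subtype.ext rfl)
      show Ideal.Quotient.liftₐ _ φ hk ((Ideal.quotientKerEquivRange ev).symm (ev.rangeRestrict a)) = φ a
      rw [this]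
      rfl
  -- the dimension
  have hdimV : ringKrullDim Γ(X, V) = r := by
    rw [← PrimeSpectrum.topologicalKrullDim_eq_ringKrullDim]
    have e : topologicalKrullDim (V : Set X) = topologicalKrullDim (PrimeSpectrum Γ(X, V)) :=
      IsHomeomorph.topologicalKrullDim_eq _ (Scheme.homeoOfIso hV.isoSpec).isHomeomorph
    rw [← e]
    haveI : Nonempty (i ⁻¹ᵁ V) := ⟨⟨ξ, hηV⟩⟩
    have hd := AffineCompl.Dim.topologicalKrullDim_opens (i ≫ f) (i ⁻¹ᵁ V)
    rw [IsHomeomorph.topologicalKrullDim_eq _ eZ.isHomeomorph, hZd] at hd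
    refine Eq.trans ?_ hd
    refine (IsHomeomorph.topologicalKrullDim_eq
      (fun y : (i ⁻¹ᵁ V : (Scheme.IdealSheafData.vanishingIdeal ⟨Z, hZc⟩).subscheme.Opens) =>
        (⟨i y.1, y.2⟩ : (V : Set X))) ?_).symm
    rw [isHomeomorph_iff_isEmbedding_surjective]
    refine ⟨(i.isClosedEmbedding.isEmbedding.comp Topology.IsEmbedding.subtypeVal).codRestrict _ _, ?_⟩
    rintro ⟨x, hx⟩
    obtain ⟨y, rfl⟩ : x ∈ Set.range i := by rw [hrange]; exact hVZ hx
    exact ⟨⟨y, hx⟩, rfl⟩
  have hdimA : ringKrullDim A = r := by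
    rw [← hdimV, ← ringKrullDim_eq_of_ringEquiv (Ideal.quotientKerEquivRange ev).toRingEquiv,
      ringKrullDim_quotient, ringKrullDim]
    refine Order.krullDim_eq_of_orderIso ((OrderIso.setCongr _ _ ?_).trans OrderIso.Set.univ)
    refine Set.eq_univ_of_forall fun p => (PrimeSpectrum.mem_zeroLocus _ _).2 fun a ha => ?_
    obtain ⟨n, hn⟩ := (hker a).1 ha
    exact p.2.mem_of_pow_mem n (hn ▸ p.asIdeal.zero_mem)
  have htr : Algebra.trdeg k (X.residueField η) = r := by
    obtain ⟨s, -, -, -, h1, h2⟩ := Dim.Basic.exists_noether k A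
    haveI := hA.isFractionRing
    haveI : Algebra.IsAlgebraic A (X.residueField η) :=
      IsLocalization.isAlgebraic _ (nonZeroDivisors A)
    have h := lift_trdeg_add_eq k A (X.residueField η)
    rw [trdeg_eq_zero (R := A) (A := X.residueField η), h1, Cardinal.lift_zero, add_zero] at h
    rw [hdimA] at h2
    have hs : r = s := by exact_mod_cast h2
    rw [hs]
    simpa using h.symm
  haveI := Constants.IsModel.finiteDimensional_constants hA
  have hm : geomCount f Z = Module.finrank k (algebraicClosure k (X.residueField η)) := by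
    rw [← hrange]
    exact geomCount_eq f i (Constants.IsModel.finiteDimensional_constants hA)
  obtain ⟨α, hα⟩ := Constants.estimate hA r htr
  refine ⟨hm ▸ Module.finrank_pos, α, fun F _ _ _ => ?_⟩
  rw [hm, countIn_affine f F hV ψ hψ, ← hhoms F]
  exact hα F

/-- The points in a closed subset containing no generic point of a component of maximal dimension. -/
theorem bound [Finite k] [QuasiCompact f] (r : ℕ) (hr : topologicalKrullDim X ≤ r) (W : Set X)
    (hWc : IsClosed W)
    (hW : ∀ Z ∈ irreducibleComponents X, topologicalKrullDim Z = r →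
      ∀ x, IsGenericPoint x Z → x ∉ W) :
    ∃ C : ℝ, ∀ (F : Type u) [Field F] [Algebra k F] [Finite F],
      (countIn f F W : ℝ) * Nat.card F ≤ C * (Nat.card F : ℝ) ^ r := by
  classical
  let j := (Scheme.IdealSheafData.vanishingIdeal ⟨W, hWc⟩).subschemeι
  have hrange : Set.range j = W := by
    rw [Scheme.IdealSheafData.range_subschemeι, Scheme.IdealSheafData.coe_support_vanishingIdeal]
    rfl
  have hlen : ∀ l : LTSeries (Scheme.IdealSheafData.vanishingIdeal ⟨W, hWc⟩).subscheme,
      l.length < r := by
    intro l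
    have hmono : StrictMono (fun x => j x) := fun a b hab =>
      lt_of_le_not_ge (Specializes.map (show b ⤳ a from hab.le) j.continuous)
        fun hge => hab.not_ge (j.isClosedEmbedding.isInducing.specializes_iff.1 hge)
    let lX := l.map _ hmono
    have hle : ∀ l' : LTSeries X, l'.length ≤ r := fun l' => by
      have h := (le_iSup (fun l : LTSeries X => ((l.length : ℕ∞) : WithBot ℕ∞)) l').trans
        ((SchTopo.Basic.topologicalKrullDim_eq_krullDim_scheme X).symm.trans_le hr)
      exact_mod_cast h
    by_contra hlt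
    have heq : lX.length = r := le_antisymm (hle lX) (not_lt.1 hlt)
    obtain ⟨Z, hZ, heZ⟩ : ∃ Z ∈ irreducibleComponents X, lX.last ∈ Z :=
      ⟨_, irreducibleComponent_mem_irreducibleComponents _, mem_irreducibleComponent⟩
    obtain ⟨η, hη⟩ := QuasiSober.sober hZ.1 (isClosed_of_mem_irreducibleComponents _ hZ)
    have hspec : η ⤳ lX.last := hη.specializes heZ
    have hlast : lX.last = η := by
      by_contra hne
      have hlt' : lX.last < η :=
        lt_of_le_not_ge hspec fun hge => hne ((show lX.last ⤳ η from hge).antisymm hspec).eq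
      have := hle (lX.snoc η hlt')
      simp only [RelSeries.snoc_length] at this
      omega
    have hZc := isClosed_of_mem_irreducibleComponents _ hZ
    refine hW Z hZ (le_antisymm ((topologicalKrullDim_subspace_le X Z).trans hr) ?_) η hη ?_
    · let i := (Scheme.IdealSheafData.vanishingIdeal ⟨Z, hZc⟩).subschemeι
      have hri : Set.range i = Z := by
        rw [Scheme.IdealSheafData.range_subschemeι, Scheme.IdealSheafData.coe_support_vanishingIdeal]
        rfl
      rw [← IsHomeomorph.topologicalKrullDim_eq _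
        (i.isClosedEmbedding.isEmbedding.toHomeomorph.trans (Homeomorph.setCongr hri)).isHomeomorph,
        SchTopo.Basic.topologicalKrullDim_eq_krullDim_scheme]
      have hmemZ : ∀ n, lX n ∈ Set.range i := fun n => by
        rw [hri]
        exact (show lX.last ⤳ lX n from LTSeries.monotone lX (Fin.le_last n)).mem_closed hZc heZ
      choose y hy using hmemZ
      refine Order.le_krullDim_iff.2 ⟨LTSeries.mk lX.length y fun a b hab => ?_, heq⟩
      have hlt' : lX a < lX b := lX.strictMono hab
      refine lt_of_le_not_ge (i.isClosedEmbedding.isInducing.specializes_iff.1 ?_) fun hge => ?_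
      · rw [hy, hy]; exact hlt'.le
      · have hge' : i (y a) ⤳ i (y b) := Specializes.map (show y a ⤳ y b from hge) i.continuous
        rw [hy, hy] at hge'
        exact hlt'.not_ge hge'
    · rw [← hlast, ← hrange]
      exact ⟨l.last, (LTSeries.last_map l _ hmono).symm⟩
  rcases r with _ | r
  · refine ⟨0, fun F _ _ _ => ?_⟩
    haveI : IsEmpty (Scheme.IdealSheafData.vanishingIdeal ⟨W, hWc⟩).subscheme :=
      ⟨fun x => Nat.not_lt_zero _ (hlen (RelSeries.singleton _ x))⟩
    have h0 : W = ∅ := by rw [← hrange]; exact Set.range_eq_empty _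
    simp [countIn, h0]
  have hd : topologicalKrullDim (Scheme.IdealSheafData.vanishingIdeal ⟨W, hWc⟩).subscheme ≤ r := by
    rw [SchTopo.Basic.topologicalKrullDim_eq_krullDim_scheme]
    refine iSup_le fun l => ?_
    exact_mod_cast Nat.lt_succ_iff.1 (hlen l)
  haveI := Zeta.FiniteBase.locallyOfFiniteType_toInt k
  obtain ⟨C, p₀, hC⟩ := Zeta.ArithScheme.exists_bound_scheme (j ≫ f ≫ Zeta.FiniteBase.toInt k) r hd
  refine ⟨C, fun F _ _ _ => ?_⟩
  obtain ⟨hfin, hb, -⟩ := hC F inferInstance
  haveI := hfin
  have hle : countIn f F W ≤ Nat.card (Spec (CommRingCat.of F) ⟶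
      (Scheme.IdealSheafData.vanishingIdeal ⟨W, hWc⟩).subscheme) := by
    have hex : ∀ g : {g : {g : Spec (CommRingCat.of F) ⟶ X //
        g ≫ f = Spec.map (CommRingCat.ofHom (algebraMap k F))} // g.1 (IsLocalRing.closedPoint F) ∈ W},
        ∃ h, h ≫ j = g.1.1 := by
      rintro ⟨⟨g, -⟩, hgW⟩
      rw [← hrange] at hgW
      obtain ⟨w, hw⟩ := hgW
      obtain ⟨φ, hφ⟩ : ∃ φ : X.residueField (j w) ⟶ CommRingCat.of F,
          Spec.map φ ≫ X.fromSpecResidueField (j w) = g := by
        rw [hw]
        exact ⟨_, Scheme.descResidueField_stalkClosedPointTo_fromSpecResidueField F X g⟩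
      haveI : IsIso (j.residueFieldMap w) :=
        (ConcreteCategory.isIso_iff_bijective _).2 (Points.bijective_residueFieldMap j w)
      refine ⟨Spec.map (inv (j.residueFieldMap w) ≫ φ) ≫ Scheme.fromSpecResidueField _ w, ?_⟩
      rw [Category.assoc, ← Scheme.Hom.SpecMap_residueFieldMap_fromSpecResidueField j w,
        ← Spec.map_comp_assoc, IsIso.hom_inv_id_assoc, hφ]
    choose h hh using hex
    exact Nat.card_le_card_of_injective h fun a b hab =>
      Subtype.ext (Subtype.ext ((hh a).symm.trans ((congrArg (· ≫ j) hab).trans (hh b))))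
  have : (countIn f F W : ℝ) ≤ C * (Nat.card F : ℝ) ^ r := by exact_mod_cast hle.trans hb
  rw [pow_succ, ← mul_assoc]
  exact mul_le_mul_of_nonneg_right this (Nat.cast_nonneg _)

end Groth.Agent.Lib.LangWeil.Components
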