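import Groth.Agent.Lib.LangWeil.Induct
import Groth.Agent.S6333

/-!
The Lang–Weil estimate for an arbitrary function field over a finite field: with `m` the degree of
the field of constants, a model has `m q^r + O(q^(r-1/2))` points in the extensions of degree
divisible by `m` and `O(q^(r-1))` in the others.
-/

set_option autoImplicit false
set_option linter.style.haveILetI false

namespace Groth.Agent.Lib.LangWeil.Constants

open IntermediateField Birational

universe u

variable {k : Type u} [Field k] [Finite k] {K : Type u} [Field K] [Algebra k K]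

theorem IsModel.essFiniteType {A : Subalgebra k K} (hA : IsModel A) : Algebra.EssFiniteType k K := by
  classical
  obtain ⟨S, hS⟩ := hA.1
  refine IntermediateField.fg_top_iff.1 ⟨S, top_le_iff.1 ?_⟩
  rw [← hA.2, IntermediateField.adjoin_le_iff, ← hS]
  exact algebra_adjoin_le_adjoin k (S : Set K)

theorem IsModel.finiteDimensional_constants {A : Subalgebra k K} (hA : IsModel A) :
    FiniteDimensional k (algebraicClosure k K) := by
  haveI := IsModel.essFiniteType hA
  exact S6333.result (IntermediateField.fg_top k K)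

theorem estimate {A : Subalgebra k K} (hA : IsModel A) (r : ℕ) (hr : Algebra.trdeg k K = r) :
    ∃ α : ℝ, ∀ (F : Type u) [Field F] [Algebra k F] [Finite F],
      (Module.finrank k (algebraicClosure k K) ∣ Module.finrank k F →
        |(Nat.card (A →ₐ[k] F) : ℝ) -
            Module.finrank k (algebraicClosure k K) * (Nat.card F : ℝ) ^ r| * Real.sqrt (Nat.card F) ≤
          α * (Nat.card F : ℝ) ^ r) ∧
      (¬ Module.finrank k (algebraicClosure k K) ∣ Module.finrank k F →
        (Nat.card (A →ₐ[k] F) : ℝ) * Nat.card F ≤ α * (Nat.card F : ℝ) ^ r) := by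
  classical
  haveI := IsModel.finiteDimensional_constants hA
  haveI := IsModel.essFiniteType hA
  set k' := algebraicClosure k K
  haveI : Finite k' := Module.finite_of_finite k
  let B : Subalgebra k K := A ⊔ k'.toSubalgebra
  have hB : IsModel B := by
    refine ⟨hA.1.sup (Subalgebra.fg_of_fg_toSubmodule ?_), top_le_iff.1 (hA.2.symm.le.trans
      (IntermediateField.adjoin.mono k _ _ (SetLike.coe_subset_coe.2 le_sup_left)))⟩
    exact (Submodule.fg_iff_finiteDimensional _).2 (inferInstanceAs (FiniteDimensional k k'))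
  haveI := hB.finiteType
  obtain ⟨C, hC⟩ := compare hA hB r hr
  let B' : Subalgebra k' K :=
    { toSubsemiring := B.toSubsemiring
      algebraMap_mem' := fun c => (le_sup_right : k'.toSubalgebra ≤ B) c.2 }
  have hmem : ∀ z, z ∈ B' ↔ z ∈ B := fun z => Iff.rfl
  have hB' : IsModel B' := by
    obtain ⟨S, hS⟩ := hB.1
    refine ⟨⟨S, le_antisymm (Algebra.adjoin_le fun z hz => (hmem z).2 ?_) fun z hz => ?_⟩, ?_⟩
    · exact hS ▸ Algebra.subset_adjoin hz
    · have h : Algebra.adjoin k (S : Set K) ≤ (Algebra.adjoin k' (S : Set K)).restrictScalars k :=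
        Algebra.adjoin_le fun w hw => Algebra.subset_adjoin hw
      exact h (hS ▸ (hmem z).1 hz)
    · refine top_le_iff.1 fun z _ => ?_
      have h : IntermediateField.adjoin k (B : Set K) ≤
          (IntermediateField.adjoin k' (B' : Set K)).restrictScalars k :=
        IntermediateField.adjoin_le_iff.2 fun w hw => IntermediateField.subset_adjoin k' _ hw
      exact h (hB.2.symm ▸ IntermediateField.mem_top)
  haveI : Algebra.EssFiniteType k' K := Algebra.EssFiniteType.of_comp k k' K
  have hr' : Algebra.trdeg k' K = r := by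
    have h := lift_trdeg_add_eq k k' K
    rw [trdeg_eq_zero (R := k) (A := k'), Cardinal.lift_zero, zero_add, hr] at h
    simpa using h
  have hcl : ∀ z : K, IsAlgebraic k' z → z ∈ Set.range (algebraMap k' K) := fun z hz =>
    ⟨⟨z, mem_algebraicClosure_iff.2 (hz.restrictScalars k)⟩, rfl⟩
  obtain ⟨α, hα⟩ := Induct.estimate (k := k') r hr' hcl hB'
  set m := Module.finrank k k'
  refine ⟨|C| + m * |α|, fun F _ _ _ => ?_⟩
  let incl : k' →ₐ[k] B := Subalgebra.inclusion (le_sup_right : k'.toSubalgebra ≤ B)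
  obtain ⟨CB, hCB⟩ := exists_bound (k := k) B r (hB.ringKrullDim_eq r hr).le
  haveI := (hCB F).1
  let fib : (k' →ₐ[k] F) → Type u := fun ι => {φ : B →ₐ[k] F // φ.comp incl = ι}
  have hsum : ∀ [Fintype (k' →ₐ[k] F)],
      Nat.card (B →ₐ[k] F) = ∑ ι : k' →ₐ[k] F, Nat.card (fib ι) := by
    intro _
    rw [← Nat.card_sigma, Nat.card_congr (Equiv.sigmaFiberEquiv fun φ : B →ₐ[k] F => φ.comp incl)]
  have hfib : ∀ ι : k' →ₐ[k] F,
      |(Nat.card (fib ι) : ℝ) - (Nat.card F : ℝ) ^ r| * Real.sqrt (Nat.card F) ≤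
        |α| * (Nat.card F : ℝ) ^ r := by
    intro ι
    letI := ι.toRingHom.toAlgebra
    haveI : IsScalarTower k k' F := IsScalarTower.of_algebraMap_eq fun c => (ι.commutes c).symm
    let e : fib ι ≃ (B' →ₐ[k'] F) :=
      { toFun := fun φ =>
          { toFun := fun b => φ.1 ⟨b.1, b.2⟩
            map_one' := map_one φ.1
            map_mul' := fun x y => map_mul φ.1 ⟨x.1, x.2⟩ ⟨y.1, y.2⟩
            map_zero' := map_zero φ.1
            map_add' := fun x y => map_add φ.1 ⟨x.1, x.2⟩ ⟨y.1, y.2⟩
            commutes' := fun c => AlgHom.congr_fun φ.2 c }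
        invFun := fun ψ =>
          ⟨{ toFun := fun b => ψ ⟨b.1, b.2⟩
             map_one' := map_one ψ
             map_mul' := fun x y => map_mul ψ ⟨x.1, x.2⟩ ⟨y.1, y.2⟩
             map_zero' := map_zero ψ
             map_add' := fun x y => map_add ψ ⟨x.1, x.2⟩ ⟨y.1, y.2⟩
             commutes' := fun c => (ψ.commutes (algebraMap k k' c)).trans
               (IsScalarTower.algebraMap_apply k k' F c).symm },
            AlgHom.ext fun c => ψ.commutes c⟩
        left_inv := fun φ => rfl
        right_inv := fun ψ => rfl }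
    rw [Nat.card_congr e]
    exact (hα F).trans (mul_le_mul_of_nonneg_right (le_abs_self α) (by positivity))
  have hCF := hC F
  set Q : ℝ := (Nat.card F : ℝ)
  have hQr : 0 ≤ Q ^ r := pow_nonneg (Nat.cast_nonneg _) _
  have hCabs : C * Q ^ r ≤ |C| * Q ^ r := mul_le_mul_of_nonneg_right (le_abs_self C) hQr
  have hmα : 0 ≤ (m : ℝ) * |α| * Q ^ r := by positivity
  haveI : Finite (k' →ₐ[k] F) := Finite.of_injective (fun φ => (φ : k' → F)) DFunLike.coe_injective
  haveI := Fintype.ofFinite (k' →ₐ[k] F)
  refine ⟨fun hd => ?_, fun hd => ?_⟩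
  · have hcard : Fintype.card (k' →ₐ[k] F) = m := by
      rw [← Nat.card_eq_fintype_card]
      exact FiniteField.natCard_algHom_of_finrank_dvd hd
    have hB1 : |(Nat.card (B →ₐ[k] F) : ℝ) - m * Q ^ r| * Real.sqrt Q ≤ m * |α| * Q ^ r := by
      rw [hsum, Nat.cast_sum, ← hcard, ← Finset.card_univ, ← nsmul_eq_mul, ← Finset.sum_const,
        ← Finset.sum_sub_distrib, mul_assoc, ← nsmul_eq_mul, ← Finset.sum_const]
      exact (mul_le_mul_of_nonneg_right (Finset.abs_sum_le_sum_abs _ _) (Real.sqrt_nonneg _)).trans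
        (by rw [Finset.sum_mul]; exact Finset.sum_le_sum fun ι _ => hfib ι)
    have hs : Real.sqrt Q ≤ Q := Real.sqrt_le_self_iff.2 (Or.inr (by
      show (1 : ℝ) ≤ (Nat.card F : ℝ)
      exact_mod_cast Finite.one_lt_card.le))
    have h1 := mul_le_mul_of_nonneg_left hs
      (abs_nonneg ((Nat.card (A →ₐ[k] F) : ℝ) - Nat.card (B →ₐ[k] F)))
    have h2 := mul_le_mul_of_nonneg_right (abs_sub_le (Nat.card (A →ₐ[k] F) : ℝ) (Nat.card (B →ₐ[k] F))
      ((m : ℝ) * Q ^ r)) (Real.sqrt_nonneg Q)
    rw [add_mul] at h2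
    rw [add_mul]
    linarith
  · haveI : IsEmpty (k' →ₐ[k] F) :=
      not_nonempty_iff.1 fun h => hd (FiniteField.nonempty_algHom_iff_finrank_dvd.1 h)
    have h0 : Nat.card (B →ₐ[k] F) = 0 := by
      rw [hsum]; simp
    rw [h0, Nat.cast_zero, sub_zero, Nat.abs_cast] at hCF
    rw [add_mul]
    linarith

end Groth.Agent.Lib.LangWeil.Constants
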