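import Groth.Agent.Lib.WeakLW.Curve
import Groth.Agent.Lib.FunFld.PlaneModel

/-!
An absolutely irreducible plane curve `G(t, y) = 0`, monic in `y`, over a field of `q` elements has
`q + O(√q)` rational points, with the constant depending only on the degrees.
-/

set_option autoImplicit false
set_option linter.style.haveILetI false

namespace Groth.Agent.Lib.LangWeil.CurveExact

open Polynomial IntermediateField Groth.Agent.Lib.FunFld WithZero
open scoped Polynomial.Bivariate

universe u v

variable {F : Type u} [Field F]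

/-- Irreducible over every finite extension. -/
def AbsIrr (G : F[X][Y]) : Prop :=
  ∀ (k' : Type u) [Field k'] [Algebra F k'], FiniteDimensional F k' →
    Irreducible (G.map (mapRingHom (algebraMap F k')))

theorem map_equiv {k' : Type u} [Field k'] [Algebra F k'] (G : F[X][Y]) :
    MvPolynomial.map (algebraMap F k') (Bivariate.equivMvPolynomial F G) =
      Bivariate.equivMvPolynomial k' (G.map (mapRingHom (algebraMap F k'))) := by
  refine RingHom.congr_fun (f := ((MvPolynomial.map (algebraMap F k')).comp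
    (Bivariate.equivMvPolynomial F).toAlgHom.toRingHom))
    (g := (Bivariate.equivMvPolynomial k').toAlgHom.toRingHom.comp
      (mapRingHom (mapRingHom (algebraMap F k')))) ?_ G
  refine Polynomial.ringHom_ext' (Polynomial.ringHom_ext (fun a => ?_) ?_) ?_
  · simp
  · simp
  · simp

/-- The function field of an absolutely irreducible monic plane curve. -/
theorem exists_functionField (G : F[X][Y]) (hG : G.Monic) (habs : AbsIrr G) :
    ∃ (L : Type u) (_ : Field L) (_ : Algebra F L) (t y : L), _root_.FunFld.IsFunctionField F L ∧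
      Transcendental F t ∧ (G.map (aeval t : F[X] →ₐ[F] L).toRingHom).eval y = 0 ∧
      IntermediateField.adjoin F ({t, y} : Set L) = ⊤ ∧
      ∀ q : F[X][Y], (q.map (aeval t : F[X] →ₐ[F] L).toRingHom).eval y = 0 → G ∣ q := by
  classical
  have hirr : Irreducible G := by
    simpa using habs F inferInstance
  have hD : G.natDegree ≠ 0 := fun h0 => hirr.not_isUnit (by
    rw [hG.natDegree_eq_zero.1 h0]; exact isUnit_one)
  let R := AdjoinRoot G
  haveI : IsDomain R := AdjoinRoot.isDomain_of_prime (UniqueFactorizationMonoid.irreducible_iff_prime.1 hirr)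
  let L := FractionRing R
  let t : L := algebraMap R L (AdjoinRoot.of G X)
  let y : L := algebraMap R L (AdjoinRoot.root G)
  have hker : ∀ q : F[X][Y], (q.map (aeval t : F[X] →ₐ[F] L).toRingHom).eval y =
      algebraMap R L (AdjoinRoot.mk G q) := fun q => by
    rw [eval_map]
    refine RingHom.congr_fun (f := eval₂RingHom (aeval t : F[X] →ₐ[F] L).toRingHom y)
      (g := (algebraMap R L).comp (AdjoinRoot.mk G)) ?_ q
    refine Polynomial.ringHom_ext' (Polynomial.ringHom_ext (fun a => ?_) ?_) ?_
    · simp [t]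
      rfl
    · simp [t]
      rfl
    · simp [y]
      exact AdjoinRoot.mk_X.symm
  have hdvd : ∀ q : F[X][Y], (q.map (aeval t : F[X] →ₐ[F] L).toRingHom).eval y = 0 → G ∣ q := fun q hq => by
    rw [hker, map_eq_zero_iff _ (IsFractionRing.injective R L), AdjoinRoot.mk_eq_zero] at hq
    exact hq
  have hyG : (G.map (aeval t : F[X] →ₐ[F] L).toRingHom).eval y = 0 := by
    rw [hker, AdjoinRoot.mk_self, map_zero]
  have ht : Transcendental F t := fun ⟨p, hp0, hp⟩ => by
    have := natDegree_le_of_dvd (hdvd (C p) (by simpa using hp)) (by simpa using hp0)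
    rw [natDegree_C] at this
    exact hD (Nat.le_zero.1 this)
  have htop : IntermediateField.adjoin F ({t, y} : Set L) = ⊤ := by
    rw [eq_top_iff]
    rintro z -
    have hmem : ∀ r : R, algebraMap R L r ∈ IntermediateField.adjoin F ({t, y} : Set L) := fun r => by
      obtain ⟨q, rfl⟩ := AdjoinRoot.mk_surjective r
      rw [← hker, eval_map, eval₂_eq_sum_range]
      refine sum_mem fun i _ => mul_mem ?_ (pow_mem (subset_adjoin F _ (by simp)) _)
      exact algebra_adjoin_le_adjoin F _ (Algebra.adjoin_mono (by simp) (aeval_mem_adjoin_singleton F t))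
    obtain ⟨a, b, -, rfl⟩ := IsFractionRing.div_surjective (A := R) z
    exact div_mem (hmem a) (hmem b)
  have hker2 : RingHom.ker (MvPolynomial.aeval ![t, y] : MvPolynomial (Fin 2) F →ₐ[F] L) =
      Ideal.span {Bivariate.equivMvPolynomial F G} := by
    ext p
    obtain ⟨q, rfl⟩ := (Bivariate.equivMvPolynomial F).surjective p
    rw [RingHom.mem_ker, Ideal.mem_span_singleton, PlaneModel.aeval_equiv, map_dvd_iff,
      PlaneModel.aevalAeval_eq, ← eval_map]
    exact ⟨hdvd q, fun ⟨c, hc⟩ => by rw [hc, Polynomial.map_mul, eval_mul, hyG, zero_mul]⟩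
  obtain ⟨hK, -⟩ := PlaneModel.backward htop (fun k' _ _ hfd => by
    rw [map_equiv]
    exact (MulEquiv.irreducible_iff (Bivariate.equivMvPolynomial k')).2 (habs k' hfd)) hker2
  exact ⟨L, inferInstance, inferInstance, t, y, hK, ht, hyG, htop, hdvd⟩

section Expansion

variable {L : Type v} [Field L] [Algebra F L] {G : F[X][Y]} {t y : L}

/-- The value of a polynomial at `(t, y)`. -/
noncomputable abbrev ev (t y : L) : F[X][Y] →+* L :=
  eval₂RingHom (aeval t : F[X] →ₐ[F] L).toRingHom y

variable (hG : G.Monic) (hdvd : ∀ q : F[X][Y], (q.map (aeval t : F[X] →ₐ[F] L).toRingHom).eval y = 0 → G ∣ q)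
  (hy : (G.map (aeval t : F[X] →ₐ[F] L).toRingHom).eval y = 0)
  {a b : F} (h0 : G.evalEval a b = 0) (h1 : G.derivative.evalEval a b ≠ 0)

include hdvd h0 in
theorem evalEval_eq_zero {q : F[X][Y]} (hq : ev t y q = 0) : q.evalEval a b = 0 := by
  obtain ⟨c, rfl⟩ := hdvd q (by rw [eval_map]; exact hq)
  rw [evalEval_mul, h0, zero_mul]

include hy h0 h1 in
/-- A function vanishing at the point is divisible by `t - a` up to a unit at the point. -/
theorem exists_step {q : F[X][Y]} (hq : q.evalEval a b = 0) :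
    ∃ s q' : F[X][Y], s.evalEval a b ≠ 0 ∧
      ev t y s * ev t y q = (t - algebraMap F L a) * ev t y q' := by
  obtain ⟨G', hG'⟩ : (X - C (C b)) ∣ G - C (G.eval (C b)) :=
    (dvd_iff_isRoot).2 (by simp)
  obtain ⟨c, hc⟩ : (X - C a) ∣ G.eval (C b) := dvd_iff_isRoot.2 h0
  obtain ⟨q₁, hq₁⟩ : (X - C (C b)) ∣ q - C (q.eval (C b)) := (dvd_iff_isRoot).2 (by simp)
  obtain ⟨d, hd⟩ : (X - C a) ∣ q.eval (C b) := dvd_iff_isRoot.2 hq
  have hs : G'.evalEval a b ≠ 0 := by
    intro h0'
    refine h1 ?_
    have hGe : G = (X - C (C b)) * G' + C (G.eval (C b)) := by rw [← hG', sub_add_cancel]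
    rw [hGe]
    simp [evalEval] at h0' ⊢
    simp [h0']
  refine ⟨G', q₁ * (-C c) + G' * C d, hs, ?_⟩
  have hty : ev t y (C (X - C a)) = t - algebraMap F L a := by simp [ev]
  have e1 : ev t y (X - C (C b)) * ev t y G' = -((t - algebraMap F L a) * ev t y (C c)) := by
    have h := congrArg (ev t y) hG'
    rw [map_sub, map_mul, show ev t y G = 0 by rw [← hy, eval_map]; rfl, zero_sub, hc, C_mul, map_mul, hty] at h
    exact h.symm
  have e2 := congrArg (ev t y) hq₁
  rw [map_sub, map_mul, hd, C_mul, map_mul, hty] at e2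
  simp only [map_add, map_mul, map_neg]
  linear_combination (ev t y G') * e2 + (ev t y q₁) * e1

include hy h0 h1 hdvd in
theorem exists_expansion (hK : _root_.FunFld.IsFunctionField F L) (P : _root_.FunFld.Place F L)
    (hP : ∀ q : F[X][Y], q.evalEval a b ≠ 0 → P.1 (ev t y q) = 1) (hPt : P.1 (t - algebraMap F L a) < 1)
    (hPint : ∀ q : F[X][Y], P.1 (ev t y q) ≤ 1)
    {q : F[X][Y]} (hq : ev t y q ≠ 0) :
    ∃ (n : ℕ) (s q' : F[X][Y]), s.evalEval a b ≠ 0 ∧ q'.evalEval a b ≠ 0 ∧
      ev t y s * ev t y q = (t - algebraMap F L a) ^ n * ev t y q' := by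
  obtain ⟨N, hN⟩ : ∃ N : ℕ, (P.ord (ev t y q)).toNat = N := ⟨_, rfl⟩
  induction N using Nat.strong_induction_on generalizing q with
  | _ N ih =>
    by_cases h : q.evalEval a b = 0
    swap
    · exact ⟨0, 1, q, by simp [evalEval], h, by simp⟩
    obtain ⟨s, q', hs, hsq⟩ := exists_step hy h0 h1 h
    have hs0 : ev t y s ≠ 0 := fun hz => hs (evalEval_eq_zero hdvd h0 hz)
    have hq'0 : ev t y q' ≠ 0 := fun hz => by
      rw [hz, mul_zero, mul_eq_zero] at hsq
      exact hsq.elim hs0 hq
    have hne : t - algebraMap F L a ≠ 0 := fun hz => by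
      rw [hz, zero_mul, mul_eq_zero] at hsq
      exact hsq.elim hs0 hq
    have hlt : P.ord (ev t y q') < P.ord (ev t y q) := by
      have h3 := congrArg P.1 hsq
      rw [map_mul, map_mul, hP s hs, one_mul, Place.val_eq_exp P hq, Place.val_eq_exp P hne,
        Place.val_eq_exp P hq'0, ← exp_add, exp_inj] at h3
      rw [Place.val_eq_exp P hne, ← exp_zero, exp_lt_exp] at hPt
      omega
    have h4 : 0 ≤ P.ord (ev t y q') := by
      have h5 := hPint q'
      rw [Place.val_eq_exp P hq'0, ← exp_zero, exp_le_exp] at h5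
      omega
    obtain ⟨n, s', q'', hs', hq'', heq⟩ := ih _ (by omega) hq'0 rfl
    refine ⟨n + 1, s * s', q'', ?_, hq'', ?_⟩
    · rw [evalEval_mul]; exact mul_ne_zero hs hs'
    · rw [map_mul, pow_succ]
      linear_combination (ev t y s') * hsq + (t - algebraMap F L a) * heq

end Expansion

/-- The point `(a, b)` below a place. -/
def Above {L : Type v} [Field L] [Algebra F L] (t y : L) (P : _root_.FunFld.Place F L) (p : F × F) : Prop :=
  P.1 (t - algebraMap F L p.1) < 1 ∧ P.1 (y - algebraMap F L p.2) < 1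

theorem val_facts {L : Type v} [Field L] [Algebra F L] {t y : L} {P : _root_.FunFld.Place F L} {a b : F}
    (h : Above t y P (a, b)) :
    (∀ q : F[X][Y], P.1 (ev t y q) ≤ 1) ∧ ∀ q : F[X][Y], q.evalEval a b ≠ 0 → P.1 (ev t y q) = 1 := by
  obtain ⟨ht, hy⟩ := h
  have htO : P.1 t ≤ 1 := by
    have := (P.1.map_add (t - algebraMap F L a) (algebraMap F L a)).trans (max_le ht.le (P.2.1 a))
    simpa using this
  have hyO : P.1 y ≤ 1 := by
    have := (P.1.map_add (y - algebraMap F L b) (algebraMap F L b)).trans (max_le hy.le (P.2.1 b))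
    simpa using this
  let tO : P.O := ⟨t, htO⟩
  let yO : P.O := ⟨y, hyO⟩
  let φ : F[X][Y] →+* P.O := eval₂RingHom (aeval tO : F[X] →ₐ[F] P.O).toRingHom yO
  have hφ : ∀ q, ((φ q : P.O) : L) = ev t y q := fun q => by
    refine RingHom.congr_fun (f := P.O.subtype.comp φ) (g := ev t y) ?_ q
    refine Polynomial.ringHom_ext' (Polynomial.ringHom_ext (fun c => ?_) ?_) ?_
    · simp [φ]
    · simp [φ, tO]
    · simp [φ, yO]
  have hres : ∀ q, IsLocalRing.residue P.O (φ q) =
      algebraMap F (IsLocalRing.ResidueField P.O) (q.evalEval a b) := fun q => by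
    refine RingHom.congr_fun (f := (IsLocalRing.residue P.O).comp φ)
      (g := (algebraMap F (IsLocalRing.ResidueField P.O)).comp (evalEvalRingHom a b)) ?_ q
    refine Polynomial.ringHom_ext' (Polynomial.ringHom_ext (fun c => ?_) ?_) ?_
    · simp [φ, Place.algebraMap_residue]
    · have h : IsLocalRing.residue P.O (tO - algebraMap F P.O a) = 0 :=
        (Place.res_eq_zero_iff P _).2 (by simpa [tO] using ht)
      rw [map_sub, sub_eq_zero, ← Place.algebraMap_residue] at h
      simpa [φ, evalEval] using h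
    · have h : IsLocalRing.residue P.O (yO - algebraMap F P.O b) = 0 :=
        (Place.res_eq_zero_iff P _).2 (by simpa [yO] using hy)
      rw [map_sub, sub_eq_zero, ← Place.algebraMap_residue] at h
      simpa [φ, evalEval] using h
  refine ⟨fun q => hφ q ▸ (φ q).2, fun q hq => ?_⟩
  refine le_antisymm (hφ q ▸ (φ q).2) (not_lt.1 fun hlt => hq ?_)
  rw [← hφ] at hlt
  have h := (Place.res_eq_zero_iff P (φ q)).2 hlt
  rw [hres] at h
  exact (map_eq_zero _).1 h

section Bij

variable {L : Type v} [Field L] [Algebra F L] {G : F[X][Y]} {t y : L}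
  (hK : _root_.FunFld.IsFunctionField F L) (ht : Transcendental F t)
  (htop : IntermediateField.adjoin F ({t, y} : Set L) = ⊤)
  (hdvd : ∀ q : F[X][Y], (q.map (aeval t : F[X] →ₐ[F] L).toRingHom).eval y = 0 → G ∣ q)
  (hy : (G.map (aeval t : F[X] →ₐ[F] L).toRingHom).eval y = 0)
  {a b : F} (h0 : G.evalEval a b = 0) (h1 : G.derivative.evalEval a b ≠ 0)

include hK ht htop hdvd hy h0 h1 in
/-- Every function is a power of `t - a` times a quotient of units at the point. -/
theorem exists_quot (P : _root_.FunFld.Place F L) (hP : Above t y P (a, b)) {z : L} (hz : z ≠ 0) :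
    ∃ (n : ℤ) (q r : F[X][Y]), q.evalEval a b ≠ 0 ∧ r.evalEval a b ≠ 0 ∧
      ev t y r * z = (t - algebraMap F L a) ^ n * ev t y q := by
  obtain ⟨hint, hone⟩ := val_facts hP
  have hmem : z ∈ IntermediateField.adjoin F (Set.range ![t, y]) := by
    rw [Matrix.range_cons_cons_empty, htop]
    exact mem_top
  obtain ⟨q, r, hzq⟩ := (mem_adjoin_range_iff F _ z).1 hmem
  obtain ⟨q, rfl⟩ := (Bivariate.equivMvPolynomial F).surjective q
  obtain ⟨r, rfl⟩ := (Bivariate.equivMvPolynomial F).surjective r
  have e : ∀ p : F[X][Y], MvPolynomial.aeval ![t, y] (Bivariate.equivMvPolynomial F p) = ev t y p := fun p => by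
    rw [PlaneModel.aeval_equiv, PlaneModel.aevalAeval_eq]
    rfl
  rw [e, e] at hzq
  have hq0 : ev t y q ≠ 0 := fun h => hz (by rw [hzq, h, zero_div])
  have hr0 : ev t y r ≠ 0 := fun h => hz (by rw [hzq, h, div_zero])
  obtain ⟨n, s, q', hs, hq', hsq⟩ := exists_expansion hdvd hy h0 h1 hK P hone hP.1 hint hq0
  obtain ⟨m, s', r', hs', hr', hsr⟩ := exists_expansion hdvd hy h0 h1 hK P hone hP.1 hint hr0
  have hne : t - algebraMap F L a ≠ 0 := sub_ne_zero.2 fun h =>
    Bound.not_mem_range_of_transcendental ht ⟨a, h.symm⟩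
  refine ⟨(n : ℤ) - m, q' * s', r' * s, by rw [evalEval_mul]; exact mul_ne_zero hq' hs',
    by rw [evalEval_mul]; exact mul_ne_zero hr' hs, ?_⟩
  rw [map_mul, map_mul, zpow_sub₀ hne, zpow_natCast, zpow_natCast, hzq]
  field_simp
  linear_combination (ev t y r') * (t - algebraMap F L a) ^ m * hsq -
    (ev t y q') * (t - algebraMap F L a) ^ n * hsr

include hK ht htop hdvd hy h0 h1 in
theorem place_eq (P Q : _root_.FunFld.Place F L) (hP : Above t y P (a, b)) (hQ : Above t y Q (a, b)) :
    P = Q := by
  refine Place.place_ext (SetLike.ext fun z => ?_)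
  rw [Place.mem_O_iff, Place.mem_O_iff]
  rcases eq_or_ne z 0 with rfl | hz
  · simp
  obtain ⟨n, q, r, hq, hr, he⟩ := exists_quot hK ht htop hdvd hy h0 h1 P hP hz
  have key : ∀ R : _root_.FunFld.Place F L, Above t y R (a, b) → (R.1 z ≤ 1 ↔ 0 ≤ n) := fun R hR => by
    have hval : R.1 z = R.1 (t - algebraMap F L a) ^ n := by
      have h := congrArg R.1 he
      rw [map_mul, map_mul, map_zpow₀, (val_facts hR).2 r hr, (val_facts hR).2 q hq, one_mul, mul_one] at h
      exact h
    have hne : t - algebraMap F L a ≠ 0 := sub_ne_zero.2 fun h =>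
      Bound.not_mem_range_of_transcendental ht ⟨a, h.symm⟩
    have hlt := hR.1
    rw [hval, Place.val_eq_exp R hne, ← exp_zsmul, ← exp_zero, exp_le_exp, smul_eq_mul]
    rw [Place.val_eq_exp R hne, ← exp_zero, exp_lt_exp] at hlt
    constructor
    · intro h; nlinarith
    · intro h; nlinarith
  rw [key P hP, key Q hQ]

include hK ht htop hdvd hy h0 h1 in
theorem exists_place : ∃ P : _root_.FunFld.Place F L, Above t y P (a, b) ∧ P.deg = 1 := by
  let A : Subalgebra F L := Algebra.adjoin F ({t, y} : Set L)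
  have hA : ∀ q, ev t y q ∈ A := fun q => by
    rw [coe_eval₂RingHom, eval₂_eq_sum_range]
    refine sum_mem fun i _ => mul_mem ?_ (pow_mem (Algebra.subset_adjoin (by simp)) _)
    exact Algebra.adjoin_mono (by simp) (aeval_mem_adjoin_singleton F t)
  let ψ : F[X][Y] →+* A := (ev t y).codRestrict A hA
  let I : Ideal A := Ideal.span {ψ (C (X - C a)), ψ (X - C (C b))}
  have hI : I ≠ ⊤ := by
    rw [Ne, Ideal.eq_top_iff_one]
    intro h
    obtain ⟨c, d, hcd⟩ := Ideal.mem_span_pair.1 h
    have hrep : ∀ c : A, ∃ q, ψ q = c := fun c => by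
      obtain ⟨c, hc⟩ := c
      suffices h : ∃ q, ev t y q = c from h.imp fun q hq => Subtype.ext hq
      induction hc using Algebra.adjoin_induction with
      | mem z hz =>
        rcases hz with rfl | rfl
        · exact ⟨C X, by simp⟩
        · exact ⟨X, by simp⟩
      | algebraMap r => exact ⟨C (C r), by simp⟩
      | add u v _ _ hu hv =>
        obtain ⟨p, rfl⟩ := hu; obtain ⟨p', rfl⟩ := hv; exact ⟨p + p', map_add _ _ _⟩
      | mul u v _ _ hu hv =>
        obtain ⟨p, rfl⟩ := hu; obtain ⟨p', rfl⟩ := hv; exact ⟨p * p', map_mul _ _ _⟩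
    obtain ⟨qc, rfl⟩ := hrep c
    obtain ⟨qd, rfl⟩ := hrep d
    rw [← map_mul, ← map_mul, ← map_add] at hcd
    have h2 : ev t y (qc * C (X - C a) + qd * (X - C (C b)) - 1) = 0 := by
      rw [map_sub, map_one, sub_eq_zero]
      exact congrArg Subtype.val hcd
    have h3 := evalEval_eq_zero hdvd h0 h2
    simp [evalEval] at h3
  have hne : t - algebraMap F L a ≠ 0 := sub_ne_zero.2 fun h =>
    Bound.not_mem_range_of_transcendental ht ⟨a, h.symm⟩
  have hI0 : I ≠ ⊥ := fun h => hne (by
    have : ψ (C (X - C a)) = 0 := by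
      rw [← Ideal.mem_bot, ← h]; exact Ideal.subset_span (by simp)
    simpa [ψ] using congrArg Subtype.val this)
  obtain ⟨P, -, hlt⟩ := Existence.exists_place_nonunits hK A I hI hI0
  have hP : Above t y P (a, b) := by
    refine ⟨?_, ?_⟩
    · have h : P.1 (ev t y (C (X - C a))) < 1 :=
        hlt (ψ (C (X - C a))) (Ideal.subset_span (Set.mem_insert _ _))
      simpa [ev] using h
    · have h : P.1 (ev t y (X - C (C b))) < 1 :=
        hlt (ψ (X - C (C b))) (Ideal.subset_span (Set.mem_insert_of_mem _ (Set.mem_singleton _)))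
      simpa [ev] using h
  refine ⟨P, hP, ?_⟩
  have := Existence.finiteDimensional_residueField hK P
  have hsurj : Function.Surjective (algebraMap F (IsLocalRing.ResidueField P.O)) := by
    intro w
    obtain ⟨⟨z, hz⟩, rfl⟩ := IsLocalRing.residue_surjective w
    obtain ⟨hint, hone⟩ := val_facts hP
    rcases eq_or_ne z 0 with rfl | hz0
    · exact ⟨0, by rw [map_zero]; exact (map_zero (IsLocalRing.residue P.O)).symm⟩
    obtain ⟨n, q, r, hq, hr, he⟩ := exists_quot hK ht htop hdvd hy h0 h1 P hP hz0
    by_cases hn : n = 0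
    · subst hn
      rw [zpow_zero, one_mul] at he
      refine ⟨q.evalEval a b / r.evalEval a b, ?_⟩
      let w0 : P.O := ⟨z, hz⟩ - algebraMap F P.O (q.evalEval a b / r.evalEval a b)
      suffices h : IsLocalRing.residue P.O w0 = 0 by
        rw [map_sub, ← Place.algebraMap_residue, sub_eq_zero] at h
        exact h.symm
      rw [Place.res_eq_zero_iff]
      show P.1 (z - algebraMap F L (q.evalEval a b / r.evalEval a b)) < 1
      let c := q.evalEval a b / r.evalEval a b
      have h5 : P.1 (ev t y (q - C (C c) * r)) < 1 := by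
        obtain ⟨s, q', hs, hsq⟩ := exists_step hy h0 h1 (q := q - C (C c) * r) (by
          simp [evalEval, c]
          simp [evalEval] at hr
          field_simp
          simp)
        have h6 := congrArg P.1 hsq
        rw [map_mul, map_mul, hone s hs, one_mul] at h6
        rw [h6]
        exact (mul_le_mul' le_rfl (hint q')).trans_lt (by rw [mul_one]; exact hP.1)
      have h7 : ev t y r * (z - algebraMap F L c) = ev t y (q - C (C c) * r) := by
        rw [mul_sub, he, map_sub, map_mul]
        simp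
        ring
      rw [← h7, map_mul, hone r hr, one_mul] at h5
      exact h5
    · refine ⟨0, ?_⟩
      rw [map_zero, eq_comm, Place.res_eq_zero_iff]
      refine lt_of_le_of_ne hz fun heq => hn ?_
      have h := congrArg P.1 he
      change P.1 z = 1 at heq
      rw [map_mul, map_mul, map_zpow₀, hone r hr, hone q hq, heq, one_mul, mul_one,
        Place.val_eq_exp P hne, ← exp_zsmul, ← exp_zero, exp_inj, smul_eq_mul] at h
      have hlt := hP.1
      rw [Place.val_eq_exp P hne, ← exp_zero, exp_lt_exp] at hlt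
      rcases mul_eq_zero.1 h.symm with h' | h'
      · exact h'
      · omega
  unfold _root_.FunFld.Place.deg
  exact le_antisymm (by
    have := LinearMap.finrank_le_finrank_of_surjective (R := F) (f := Algebra.linearMap F (IsLocalRing.ResidueField P.O)) hsurj
    rw [Module.finrank_self] at this
    exact this) Module.finrank_pos

end Bij

/-- An absolutely irreducible plane curve has `q + O(√q)` points off a finite set of abscissas. -/
theorem card_points [Finite F] {G : F[X][Y]} (hG : G.Monic) (habs : AbsIrr G) {D w : ℕ}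
    (hD : G.natDegree ≤ D) (hw : ∀ i, (G.coeff i).natDegree ≤ w) (S : Finset F)
    (hS : ∀ a b : F, a ∉ S → G.evalEval a b = 0 → G.derivative.evalEval a b ≠ 0) :
    |(Nat.card {p : F × F // p.1 ∉ S ∧ G.evalEval p.1 p.2 = 0} : ℝ) - Nat.card F| ≤
      (2 * (1 + w * D ^ 2) + 1 + D * (1 + S.card)) * Real.sqrt (Nat.card F) := by
  classical
  haveI := Fintype.ofFinite F
  obtain ⟨L, _, _, t, y, hK, ht, hy, htop, hdvd⟩ := exists_functionField G hG habs
  obtain ⟨hn, hnd⟩ := WeakLW.Curve.finrank_eq hG hy htop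
  have hnD : Module.finrank (IntermediateField.adjoin F ({t} : Set L)) L ≤ D := hn ▸ hnd.trans hD
  let Pl1 := {P : _root_.FunFld.Place F L // P.deg = 1}
  let V := {p : F × F // p.1 ∉ S ∧ G.evalEval p.1 p.2 = 0}
  -- finitely many exceptional places
  let Z : F → Finset (_root_.FunFld.Place F L) := fun a =>
    (Degree.zeroDiv (k := F) (t - algebraMap F L a)).support
  let U := (Degree.poleDiv (k := F) t).support ∪ S.biUnion Z
  have hU : U.card ≤ D * (1 + S.card) := by
    refine (Finset.card_union_le _ _).trans ?_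
    rw [mul_add, mul_one, mul_comm D S.card]
    refine Nat.add_le_add ?_ (Finset.card_biUnion_le_card_mul _ _ _ fun a _ => ?_)
    · have h := WeakLW.Curve.card_support_le (E := Degree.poleDiv (k := F) t) hK (negPart_nonneg _)
        (fun P hP => Finsupp.mem_support_iff.1 hP)
      rw [Degree.deg_poleDiv hK ht] at h
      omega
    · have htr : Transcendental F (t - algebraMap F L a) := fun h =>
        ht (by simpa using h.add (isAlgebraic_algebraMap a))
      have h := WeakLW.Curve.card_support_le (E := Degree.zeroDiv (k := F) (t - algebraMap F L a)) hK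
        (posPart_nonneg _) (fun P hP => Finsupp.mem_support_iff.1 hP)
      rw [Degree.deg_zeroDiv hK htr, WeakLW.Curve.adjoin_sub a] at h
      change (Z a).card ≤ D
      simp only [Z]
      omega
  -- the point of a place
  have hpt : ∀ P : Pl1, (P.1 : _root_.FunFld.Place F L) ∉ U → ∃ p : V, Above t y P.1 p.1 := by
    rintro ⟨P, hP⟩ hnU
    simp only [U, Finset.mem_union, Finset.mem_biUnion, not_or, not_exists, not_and] at hnU
    obtain ⟨hpole, hzero⟩ := hnU
    have htP : P.1 t ≤ 1 := by
      by_contra h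
      refine hpole (Finsupp.mem_support_iff.2 ?_)
      rw [Degree.poleDiv_apply hK]
      have h := not_le.1 h
      rw [Place.val_eq_exp P (Bound.ne_zero_of_transcendental ht), ← exp_zero, exp_lt_exp] at h
      rw [max_eq_left (by omega)]
      omega
    have hyP : P.1 y ≤ 1 := by
      simpa using WeakLW.Curve.val_y_le hG hw hy P 0 (by simpa using htP)
    obtain ⟨a, ha⟩ := WeakLW.Curve.exists_eq_of_deg_one P hP ⟨t, htP⟩
    obtain ⟨b, hb⟩ := WeakLW.Curve.exists_eq_of_deg_one P hP ⟨y, hyP⟩
    have hA : Above t y P (a, b) := by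
      refine ⟨?_, ?_⟩
      · simpa using (Place.res_eq_zero_iff P (⟨t, htP⟩ - algebraMap F P.O a)).1 (by
          rw [map_sub, ha, Place.algebraMap_residue, sub_self])
      · simpa using (Place.res_eq_zero_iff P (⟨y, hyP⟩ - algebraMap F P.O b)).1 (by
          rw [map_sub, hb, Place.algebraMap_residue, sub_self])
    have hne : t - algebraMap F L a ≠ 0 := sub_ne_zero.2 fun h =>
      Bound.not_mem_range_of_transcendental ht ⟨a, h.symm⟩
    refine ⟨⟨(a, b), fun haS => hzero a haS (Finsupp.mem_support_iff.2 ?_), ?_⟩, hA⟩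
    · rw [Degree.zeroDiv_apply hK]
      have h := hA.1
      rw [Place.val_eq_exp P hne, ← exp_zero, exp_lt_exp] at h
      rw [max_eq_left (by omega)]
      omega
    · by_contra h
      have := (val_facts hA).2 G h
      rw [show ev t y G = 0 by rw [← hy, eval_map]; rfl, map_zero] at this
      exact zero_ne_one this
  choose pt hpt' using hpt
  -- places to points
  have hle1 : Nat.card Pl1 ≤ U.card + Nat.card V := by
    let f : Pl1 → U ⊕ V := fun P => if h : P.1 ∈ U then Sum.inl ⟨P.1, h⟩ else Sum.inr (pt P h)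
    rw [← Nat.card_eq_finsetCard U, ← Nat.card_sum]
    refine Nat.card_le_card_of_injective f fun P Q h => ?_
    simp only [f] at h
    split_ifs at h with hP hQ hQ
    · have h2 := Sum.inl.inj h
      exact Subtype.ext (congrArg (fun x : U => (x : _root_.FunFld.Place F L)) h2)
    · have h3 : pt P hP = pt Q hQ := Sum.inr_injective h
      exact Subtype.ext (place_eq hK ht htop hdvd hy (pt P hP).2.2 (hS _ _ (pt P hP).2.1 (pt P hP).2.2)
        P.1 Q.1 (hpt' P hP) (h3 ▸ hpt' Q hQ))
  -- points to places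
  have hex : ∀ p : V, ∃ P : _root_.FunFld.Place F L, Above t y P p.1 ∧ P.deg = 1 := fun p =>
    exists_place hK ht htop hdvd hy p.2.2 (hS _ _ p.2.1 p.2.2)
  choose pl hpl hpl1 using hex
  haveI : Finite Pl1 := by
    let f : Pl1 → U ⊕ V := fun P => if h : P.1 ∈ U then Sum.inl ⟨P.1, h⟩ else Sum.inr (pt P h)
    refine Finite.of_injective f fun P Q h => ?_
    simp only [f] at h
    split_ifs at h with hP hQ hQ
    · have h2 := Sum.inl.inj h
      exact Subtype.ext (congrArg (fun x : U => (x : _root_.FunFld.Place F L)) h2)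
    · have h3 : pt P hP = pt Q hQ := Sum.inr_injective h
      exact Subtype.ext (place_eq hK ht htop hdvd hy (pt P hP).2.2 (hS _ _ (pt P hP).2.1 (pt P hP).2.2)
        P.1 Q.1 (hpt' P hP) (h3 ▸ hpt' Q hQ))
  have hle2 : Nat.card V ≤ Nat.card Pl1 := by
    refine Nat.card_le_card_of_injective (fun p => (⟨pl p, hpl1 p⟩ : Pl1)) fun p p' h => ?_
    have h' : pl p = pl p' := congrArg Subtype.val h
    have huniq : ∀ (P : _root_.FunFld.Place F L) (w : L) (c c' : F),
        P.1 (w - algebraMap F L c) < 1 → P.1 (w - algebraMap F L c') < 1 → c = c' := by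
      intro P w c c' h1 h2
      by_contra hne
      have h3 := (P.1.map_sub (w - algebraMap F L c) (w - algebraMap F L c')).trans_lt (max_lt h1 h2)
      rw [show w - algebraMap F L c - (w - algebraMap F L c') = algebraMap F L (c' - c) by
        rw [map_sub]; ring, Place.val_algebraMap P (sub_ne_zero.2 (Ne.symm hne))] at h3
      exact lt_irrefl _ h3
    exact Subtype.ext (Prod.ext (huniq _ t _ _ (hpl p).1 (h' ▸ (hpl p').1))
      (huniq _ y _ _ (hpl p).2 (h' ▸ (hpl p').2)))
  have hW := abs_le.1 (Groth.Agent.S11042.result F L hK)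
  have hg : (_root_.FunFld.genus F L : ℝ) ≤ 1 + w * D ^ 2 := by
    exact_mod_cast WeakLW.Curve.genus_le hK ht hG hD hw hy htop
  have hs1 : (1 : ℝ) ≤ Real.sqrt (Nat.card F) := by
    refine Real.one_le_sqrt.2 ?_
    exact_mod_cast Finite.one_lt_card.le
  have hgs := mul_le_mul_of_nonneg_right hg (Real.sqrt_nonneg (Nat.card F : ℝ))
  have e1 : (Nat.card Pl1 : ℝ) ≤ U.card + Nat.card V := by exact_mod_cast hle1
  have e2 : (Nat.card V : ℝ) ≤ Nat.card Pl1 := by exact_mod_cast hle2
  have e3 : (U.card : ℝ) ≤ D * (1 + S.card) := by exact_mod_cast hU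
  have e4 : (0 : ℝ) ≤ (D : ℝ) * (1 + S.card) := by positivity
  have e5 := mul_le_mul_of_nonneg_left hs1 e4
  rw [abs_le]
  constructor <;> nlinarith [hW.1, hW.2]

end Groth.Agent.Lib.LangWeil.CurveExact
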