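import Groth.Agent.Lib.LangWeil.CurveExact
import Groth.Agent.Lib.WeakLW.Field
import Groth.Agent.H81.FunFldGeom

/-!
A regular extension of transcendence degree `n + 1` as the function field of an absolutely
irreducible plane curve over a regular extension of transcendence degree `n`.
-/

set_option autoImplicit false
set_option linter.style.haveILetI false

namespace Groth.Agent.Lib.LangWeil.Fibration

open Polynomial IntermediateField
open scoped Polynomial.Bivariate

universe u

variable {k : Type u} [Field k] {K : Type u} [Field K] [Algebra k K]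

/-- Separability and finiteness pass to larger base fields. -/
theorem sep_finite_of_le [Algebra.EssFiniteType k K] (L₀ : IntermediateField k K)
    [Algebra.IsSeparable L₀ K] {M : Type u} [Field M] [Algebra k M] [Algebra M K] [IsScalarTower k M K]
    (h : ∀ x ∈ L₀, x ∈ Set.range (algebraMap M K)) : Algebra.IsSeparable M K ∧ FiniteDimensional M K := by
  choose g hg using h
  let ψ : L₀ →+* M :=
    { toFun := fun x => g x.1 x.2
      map_one' := (algebraMap M K).injective (by rw [hg, map_one]; rfl)
      map_mul' := fun x y => (algebraMap M K).injective (by rw [map_mul, hg, hg, hg]; rfl)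
      map_zero' := (algebraMap M K).injective (by rw [hg, map_zero]; rfl)
      map_add' := fun x y => (algebraMap M K).injective (by rw [map_add, hg, hg, hg]; rfl) }
  letI := ψ.toAlgebra
  haveI : IsScalarTower L₀ M K := IsScalarTower.of_algebraMap_eq' (RingHom.ext fun x => (hg x.1 x.2).symm)
  haveI : Algebra.IsSeparable M K := Algebra.isSeparable_tower_top_of_isSeparable L₀ M K
  haveI : Algebra.EssFiniteType M K := Algebra.EssFiniteType.of_comp k M K
  exact ⟨inferInstance, Algebra.finite_of_essFiniteType_of_isAlgebraic⟩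

/-- The algebraic closure in `K` of a subfield over which `t` is transcendental and generates a
subfield of finite index is finite over it. -/
theorem finite_algebraicClosure (E : IntermediateField k K) (t : K) (ht : Transcendental E t)
    [FiniteDimensional (IntermediateField.adjoin E ({t} : Set K)) K] :
    FiniteDimensional E (algebraicClosure E K) := by
  classical
  have ht1 : Transcendental (algebraicClosure E K) t := ht.extendScalars _
  let b := Module.Basis.ofVectorSpace E (algebraicClosure E K)
  let E' := IntermediateField.adjoin E ({t} : Set K)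
  have hpoly : ∀ (ι : Type u) (s : Finset ι) (v : ι → algebraicClosure E K) (c : ι → E[X]),
      ∑ i ∈ s, Polynomial.aeval t (c i) * (v i : K) = 0 → ∀ j, ∑ i ∈ s, (c i).coeff j • v i = 0 := by
    intro ι s v c h j
    let Q : (algebraicClosure E K)[X] := ∑ i ∈ s, Polynomial.C (v i) * (c i).map (algebraMap E _)
    have hQ : Polynomial.aeval t Q = 0 := by
      rw [← h, map_sum]
      refine Finset.sum_congr rfl fun i _ => ?_
      rw [map_mul, Polynomial.aeval_C, Polynomial.aeval_map_algebraMap, mul_comm]
      rfl
    have hQ0 : Q = 0 := by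
      by_contra hne
      exact ht1 ⟨Q, hne, hQ⟩
    have := congrArg (fun q : (algebraicClosure E K)[X] => q.coeff j) hQ0
    simp only [Q, finsetSum_coeff, coeff_C_mul, coeff_map, coeff_zero] at this
    rw [← this]
    exact Finset.sum_congr rfl fun i _ => by rw [Algebra.smul_def, mul_comm]
  have hli : LinearIndependent E' (fun i => ((b i : algebraicClosure E K) : K)) := by
    rw [linearIndependent_iff']
    intro s c hc i hi
    have hq : ∀ i, ∃ r q : E[X], Polynomial.aeval t q ≠ 0 ∧ ((c i : E') : K) = Polynomial.aeval t r / Polynomial.aeval t q := by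
      intro i
      obtain ⟨r, q, hrq⟩ := (mem_adjoin_simple_iff E ((c i : E') : K)).1 (c i).2
      by_cases hq : Polynomial.aeval t q = 0
      · exact ⟨0, 1, by simp, by rw [hrq, hq, div_zero, map_zero, zero_div]⟩
      · exact ⟨r, q, hq, hrq⟩
    choose r q hq hrq using hq
    let d : _ → E[X] := fun i => r i * ∏ l ∈ s.erase i, q l
    have hsum : ∑ i ∈ s, Polynomial.aeval t (d i) * ((b i : algebraicClosure E K) : K) = 0 := by
      have h0 : (∏ l ∈ s, Polynomial.aeval t (q l)) * ∑ i ∈ s, c i • ((b i : algebraicClosure E K) : K) = 0 := by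
        rw [hc, mul_zero]
      rw [← h0, Finset.mul_sum]
      refine Finset.sum_congr rfl fun i hi => ?_
      have hqi := hq i
      rw [IntermediateField.smul_def, smul_eq_mul, hrq, map_mul, map_prod,
        ← Finset.mul_prod_erase s (fun l => Polynomial.aeval t (q l)) hi]
      field_simp
    have hd : d i = 0 := Polynomial.ext fun j =>
      (linearIndependent_iff'.1 b.linearIndependent s (fun i => (d i).coeff j)
        (hpoly _ s _ d hsum j) i hi).trans (coeff_zero j).symm
    have hr : r i = 0 := (mul_eq_zero.1 hd).resolve_right (Finset.prod_ne_zero_iff.2 fun l _ h =>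
      hq l (by rw [h, map_zero]))
    exact Subtype.ext (by rw [hrq, hr, map_zero, zero_div]; rfl)
  haveI := hli.finite
  exact Module.Finite.of_basis b

set_option maxHeartbeats 1000000 in
theorem exists_fibration [PerfectField k] [Algebra.EssFiniteType k K] (n : ℕ)
    (hn : Algebra.trdeg k K = (n + 1 : ℕ)) :
    ∃ (K1 : Type u) (_ : Field K1) (_ : Algebra k K1) (_ : Algebra K1 K) (_ : IsScalarTower k K1 K)
      (t y : K) (g : K1[X][Y]) (a b : K1[X][Y]) (h : K1[X]),
      Algebra.EssFiniteType k K1 ∧ Algebra.trdeg k K1 = n ∧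
      g.Monic ∧ CurveExact.AbsIrr g ∧ h ≠ 0 ∧ a * g + b * g.derivative = Polynomial.C h ∧
      Transcendental K1 t ∧ IntermediateField.adjoin K1 ({t, y} : Set K) = ⊤ ∧
      g.eval₂ (Polynomial.aeval t : K1[X] →ₐ[K1] K).toRingHom y = 0 ∧
      ∀ q : K1[X][Y], q.eval₂ (Polynomial.aeval t : K1[X] →ₐ[K1] K).toRingHom y = 0 → g ∣ q := by
  classical
  obtain ⟨S, hS, hsep⟩ := exists_isTranscendenceBasis_and_isSeparable_of_perfectField k K
  haveI := hsep
  have hcard : S.card = n + 1 := by
    have h := hS.cardinalMk_eq_trdeg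
    rw [hn, Cardinal.mk_fintype, Fintype.card_coe] at h
    exact_mod_cast h
  obtain ⟨t, htS⟩ := Finset.card_pos.1 (by omega : 0 < S.card)
  let E := IntermediateField.adjoin k ((S.erase t : Finset K) : Set K)
  have ht : Transcendental E t := by
    have h := hS.1.transcendental_adjoin (s := Subtype.val ⁻¹' ((S.erase t : Finset K) : Set K))
      (i := ⟨t, htS⟩) (by simp)
    have himg : ((↑) : S → K) '' (Subtype.val ⁻¹' ((S.erase t : Finset K) : Set K)) = ((S.erase t : Finset K) : Set K) :=
      Set.image_preimage_eq_of_subset (by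
        rw [Subtype.range_coe]
        exact fun z hz => Finset.mem_of_mem_erase hz)
    rw [himg] at h
    open scoped IntermediateField.algebraAdjoinAdjoin in exact h.extendScalars E
  let L₀ := IntermediateField.adjoin k (S : Set K)
  have hsub : ∀ (M : Type u) [Field M] [Algebra k M] [Algebra M K] [IsScalarTower k M K],
      (∀ z ∈ S, z ∈ Set.range (algebraMap M K)) → ∀ z ∈ L₀, z ∈ Set.range (algebraMap M K) := by
    intro M _ _ _ _ hM z hz
    have : L₀ ≤ (IsScalarTower.toAlgHom k M K).fieldRange :=
      IntermediateField.adjoin_le_iff.2 fun w hw => hM w hw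
    exact this hz
  have hSE : ∀ z ∈ S, z ∈ IntermediateField.adjoin E ({t} : Set K) := fun z hz => by
    by_cases hzt : z = t
    · exact hzt ▸ mem_adjoin_simple_self E t
    · exact IntermediateField.algebraMap_mem _ (⟨z, IntermediateField.subset_adjoin k _
        (Finset.mem_coe.2 (Finset.mem_erase.2 ⟨hzt, hz⟩))⟩ : E)
  haveI : IsScalarTower k (IntermediateField.adjoin E ({t} : Set K)) K :=
    IsScalarTower.of_algebraMap_eq' (RingHom.ext fun c => rfl)
  haveI : FiniteDimensional (IntermediateField.adjoin E ({t} : Set K)) K :=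
    (sep_finite_of_le L₀ (hsub _ fun z hz => ⟨⟨z, hSE z hz⟩, rfl⟩)).2
  let K1 := algebraicClosure E K
  haveI := finite_algebraicClosure E t ht
  haveI : IsScalarTower k K1 K := IsScalarTower.of_algebraMap_eq' (RingHom.ext fun c => rfl)
  letI : Algebra k (IntermediateField.adjoin K1 ({t} : Set K)) :=
    ((algebraMap K1 (IntermediateField.adjoin K1 ({t} : Set K))).comp (algebraMap k K1)).toAlgebra
  haveI : IsScalarTower k (IntermediateField.adjoin K1 ({t} : Set K)) K :=
    IsScalarTower.of_algebraMap_eq' (RingHom.ext fun c => rfl)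
  haveI : Algebra.EssFiniteType k E := IntermediateField.essFiniteType_iff.2 (IntermediateField.fg_adjoin_finset _)
  haveI : Algebra.EssFiniteType k K1 := Algebra.EssFiniteType.comp k E K1
  have htr1 : Algebra.trdeg k K1 = n := by
    have hindep : AlgebraicIndependent k (fun z : ↥(S.erase t) => (z : K)) :=
      hS.1.comp (fun z : ↥(S.erase t) => (⟨z.1, Finset.mem_of_mem_erase z.2⟩ : S)) fun z w h =>
        Subtype.ext (congrArg (fun x : S => (x : K)) h)
    let v : ↥(S.erase t) → E := fun z => ⟨z.1, IntermediateField.subset_adjoin k _ z.2⟩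
    have hv : AlgebraicIndependent k v := AlgebraicIndependent.of_comp E.val hindep
    have hvb : IsTranscendenceBasis k v := by
      refine hv.isTranscendenceBasis_iff_isAlgebraic.2 ?_
      have htop : IntermediateField.adjoin k (Set.range v) = ⊤ := by
        apply IntermediateField.map_injective E.val
        rw [IntermediateField.adjoin_map, ← AlgHom.fieldRange_eq_map, IntermediateField.fieldRange_val,
          ← Set.range_comp]
        exact congrArg (IntermediateField.adjoin k) Subtype.range_coe
      rw [← IntermediateField.isAlgebraic_adjoin_iff_top, htop, Algebra.isAlgebraic_iff_isIntegral]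
      exact Algebra.isIntegral_of_surjective IntermediateField.topEquiv.surjective
    haveI : Algebra.IsAlgebraic E K1 := Algebra.IsAlgebraic.of_finite E K1
    have h := lift_trdeg_add_eq k E K1
    rw [trdeg_eq_zero (R := E) (A := K1), ← hvb.cardinalMk_eq_trdeg, Cardinal.lift_zero, add_zero,
      Cardinal.mk_fintype, Fintype.card_coe, Finset.card_erase_of_mem htS, hcard] at h
    simpa using h.symm
  have ht1 : Transcendental K1 t := ht.extendScalars _
  have hS1 : ∀ z ∈ S, z ∈ IntermediateField.adjoin K1 ({t} : Set K) := fun z hz => by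
    by_cases hzt : z = t
    · exact hzt ▸ mem_adjoin_simple_self K1 t
    · exact IntermediateField.algebraMap_mem _ (algebraMap E K1 ⟨z, IntermediateField.subset_adjoin k _
        (Finset.mem_coe.2 (Finset.mem_erase.2 ⟨hzt, hz⟩))⟩)
  obtain ⟨hsep1, hfin1⟩ := sep_finite_of_le L₀ (hsub (IntermediateField.adjoin K1 ({t} : Set K))
    fun z hz => ⟨⟨z, hS1 z hz⟩, rfl⟩)
  haveI := hsep1; haveI := hfin1
  have hK : _root_.FunFld.IsFunctionField K1 K := by
    refine ⟨⟨t, ht1, hfin1⟩, fun z hz => ?_⟩
    have hzE : IsAlgebraic E z := hz.restrictScalars E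
    exact ⟨⟨z, mem_algebraicClosure_iff.2 hzE⟩, rfl⟩
  have hgeo := H81.FunFldGeom.isGeometric_of_isSep hK (x := t) hsep1
  -- the equation
  let F₀ := IntermediateField.adjoin K1 ({t} : Set K)
  obtain ⟨θ, hθ⟩ := Field.exists_primitive_element F₀ K
  let f : K1[X] →+* F₀ := (Polynomial.aeval (⟨t, mem_adjoin_simple_self K1 t⟩ : F₀)).toRingHom
  have hfcomp : (algebraMap F₀ K).comp f = (Polynomial.aeval t : K1[X] →ₐ[K1] K).toRingHom :=
    Polynomial.ringHom_ext (fun c => by simp [f, ← IsScalarTower.algebraMap_apply]) (by simp [f])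
  have hfco : ∀ p, ((f p : F₀) : K) = Polynomial.aeval t p := fun p => RingHom.congr_fun hfcomp p
  have hfinj : Function.Injective f := fun p q hpq =>
    transcendental_iff_injective.1 ht1 (by rw [← hfco, ← hfco, hpq])
  have hfrac : ∀ z : F₀, ∃ a b : K1[X], b ≠ 0 ∧ f b * z = f a := by
    intro z
    obtain ⟨a, b, hz⟩ := (IntermediateField.mem_adjoin_simple_iff K1 (z : K)).1 z.2
    by_cases hb : b = 0
    · refine ⟨0, 1, one_ne_zero, Subtype.ext ?_⟩
      rw [hb, map_zero, div_zero] at hz
      simp [hz]
    refine ⟨a, b, hb, Subtype.ext ?_⟩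
    show ((f b : F₀) : K) * (z : K) = _
    rw [hfco, hfco, hz]
    exact mul_div_cancel₀ _ fun h0 => hb (transcendental_iff_injective.1 ht1 (h0.trans (map_zero _).symm))
  set μ := minpoly F₀ θ
  have hθint : IsIntegral F₀ θ := Algebra.IsIntegral.isIntegral θ
  obtain ⟨d, hd, Q, hQ⟩ := WeakLW.Field.exists_clear f hfrac μ
  have hfd : f d ≠ 0 := fun h0 => hd (hfinj (h0.trans (map_zero f).symm))
  set μ' := μ.scaleRoots (f d)
  have hlift : μ' ∈ Polynomial.lifts f := by
    rw [Polynomial.lifts_iff_coeff_lifts]
    intro i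
    rw [Polynomial.coeff_scaleRoots]
    rcases lt_trichotomy i μ.natDegree with hi | hi | hi
    · refine ⟨Q.coeff i * d ^ (μ.natDegree - i - 1), ?_⟩
      have hQi := congrArg (fun p : Polynomial F₀ => p.coeff i) hQ
      simp only [Polynomial.coeff_map, Polynomial.coeff_C_mul] at hQi
      rw [map_mul, map_pow, hQi, mul_comm (f d), mul_assoc, ← pow_succ',
        show μ.natDegree - i - 1 + 1 = μ.natDegree - i by omega]
    · exact ⟨1, by rw [hi, (minpoly.monic hθint).coeff_natDegree, Nat.sub_self, pow_zero, mul_one,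
        map_one]⟩
    · exact ⟨0, by rw [Polynomial.coeff_eq_zero_of_natDegree_lt hi, zero_mul, map_zero]⟩
  obtain ⟨g, hgμ, hgdeg, hgm⟩ := Polynomial.lifts_and_natDegree_eq_and_monic hlift
    ((Polynomial.monic_scaleRoots_iff _).2 (minpoly.monic hθint))
  let y : K := algebraMap F₀ K (f d) * θ
  have hy0 : Polynomial.aeval y μ' = 0 :=
    Polynomial.scaleRoots_aeval_eq_zero (minpoly.aeval F₀ θ)
  have hytop : IntermediateField.adjoin F₀ ({y} : Set K) = ⊤ := by
    rw [eq_top_iff, ← hθ, adjoin_simple_le_iff]
    have hne : algebraMap F₀ K (f d) ≠ 0 := by rwa [Ne, map_eq_zero]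
    have : θ = (algebraMap F₀ K (f d))⁻¹ * y := (inv_mul_cancel_left₀ hne θ).symm
    rw [this]
    exact mul_mem (inv_mem (IntermediateField.algebraMap_mem _ _)) (mem_adjoin_simple_self F₀ y)
  have hyint : IsIntegral F₀ y := Algebra.IsIntegral.isIntegral y
  have hμ' : μ' = minpoly F₀ y := by
    have h1 : (minpoly F₀ y).natDegree = μ.natDegree := by
      rw [← IntermediateField.adjoin.finrank hyint, ← IntermediateField.adjoin.finrank hθint, hytop, hθ]
    refine Polynomial.eq_of_monic_of_dvd_of_natDegree_le (minpoly.monic hyint)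
      ((Polynomial.monic_scaleRoots_iff _).2 (minpoly.monic hθint)) (minpoly.dvd F₀ y hy0) ?_
    rw [h1, Polynomial.natDegree_scaleRoots]
  have hev : ∀ q : K1[X][Y], Polynomial.aeval y (q.map f) =
      q.eval₂ (Polynomial.aeval t : K1[X] →ₐ[K1] K).toRingHom y := fun q => by
    rw [Polynomial.aeval_def, Polynomial.eval₂_map, hfcomp]
  have hgy : g.eval₂ (Polynomial.aeval t : K1[X] →ₐ[K1] K).toRingHom y = 0 := by
    rw [← hev, hgμ, hy0]
  have hdvd : ∀ q : K1[X][Y], q.eval₂ (Polynomial.aeval t : K1[X] →ₐ[K1] K).toRingHom y = 0 → g ∣ q := by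
    intro q hq
    refine (Polynomial.map_dvd_map f hfinj hgm).1 ?_
    rw [hgμ, hμ']
    exact minpoly.dvd F₀ y (by rw [hev]; exact hq)
  have htop2 : IntermediateField.adjoin K1 ({t, y} : Set K) = ⊤ := by
    rw [← IntermediateField.adjoin_simple_adjoin_simple, hytop, IntermediateField.restrictScalars_top]
  -- absolute irreducibility
  have habs : CurveExact.AbsIrr g := by
    intro k' _ _ hfd
    haveI := hfd
    haveI := (hgeo k' hfd).isDomain
    let fm := Bivariate.equivMvPolynomial K1 g
    have hker : RingHom.ker (MvPolynomial.aeval ![t, y] : MvPolynomial (Fin 2) K1 →ₐ[K1] K) =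
        Ideal.span {fm} := by
      ext p
      obtain ⟨q, rfl⟩ := (Bivariate.equivMvPolynomial K1).surjective p
      rw [RingHom.mem_ker, Ideal.mem_span_singleton, FunFld.PlaneModel.aeval_equiv, map_dvd_iff,
        FunFld.PlaneModel.aevalAeval_eq]
      exact ⟨hdvd q, fun ⟨c, hc⟩ => by rw [hc, eval₂_mul, hgy, zero_mul]⟩
    rw [← MulEquiv.irreducible_iff (Bivariate.equivMvPolynomial k'), ← CurveExact.map_equiv]
    have hne : MvPolynomial.map (algebraMap K1 k') fm ≠ 0 := fun h =>
      hgm.ne_zero ((map_eq_zero_iff _ (Bivariate.equivMvPolynomial K1).injective).1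
        (MvPolynomial.map_injective _ (algebraMap K1 k').injective (h.trans (map_zero _).symm)))
    refine Prime.irreducible ⟨hne, fun hu => ?_, fun a b hab => ?_⟩
    · have := (FunFld.PlaneModel.ker_tensor hker k' 1).2 (isUnit_iff_dvd_one.1 hu)
      rw [map_one] at this
      exact one_ne_zero this
    · rw [← FunFld.PlaneModel.ker_tensor hker k' (a * b), map_mul, mul_eq_zero] at hab
      exact hab.imp (FunFld.PlaneModel.ker_tensor hker k' a).1 (FunFld.PlaneModel.ker_tensor hker k' b).1
  have hsepy : (g.map f).Separable := by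
    rw [hgμ, hμ']
    exact Algebra.IsSeparable.isSeparable F₀ y
  obtain ⟨a, b, hab⟩ := (Polynomial.separable_def' _).1 hsepy
  obtain ⟨da, hda, A, hA⟩ := WeakLW.Field.exists_clear f hfrac a
  obtain ⟨db, hdb, B, hB⟩ := WeakLW.Field.exists_clear f hfrac b
  refine ⟨K1, inferInstance, inferInstance, inferInstance, inferInstance, t, y, g,
    Polynomial.C db * A, Polynomial.C da * B, da * db, inferInstance, htr1, hgm, habs,
    mul_ne_zero hda hdb, ?_, ht1, htop2, hgy, hdvd⟩
  apply Polynomial.map_injective f hfinj
  simp only [Polynomial.map_add, Polynomial.map_mul, Polynomial.map_C, ← Polynomial.derivative_map,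
    hA, hB, map_mul]
  linear_combination (Polynomial.C (f da) * Polynomial.C (f db)) * hab

end Groth.Agent.Lib.LangWeil.Fibration
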