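import Groth.Agent.Lib.LangWeil.CurveExact
import Mathlib.RingTheory.Jacobson.Ring
import Mathlib.RingTheory.MvPolynomial.Localization

/-!
Absolute irreducibility of a monic plane curve survives specialisation off a closed subset.
-/

set_option autoImplicit false
set_option linter.style.haveILetI false

namespace Groth.Agent.Lib.LangWeil.Spread

open Polynomial
open scoped Polynomial.Bivariate

universe u

theorem coeff_swap {R : Type*} [CommRing R] (h : R[X][Y]) (i j : ℕ) :
    ((Bivariate.swap h).coeff j).coeff i = (h.coeff i).coeff j := by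
  induction h using Polynomial.induction_on' with
  | add p q hp hq => simp [hp, hq]
  | monomial n p =>
    induction p using Polynomial.induction_on' with
    | add p q hp hq => simp only [map_add, coeff_add, hp, hq]
    | monomial m c =>
      rw [Bivariate.swap_monomial_monomial]
      simp only [coeff_monomial]
      split_ifs with h1 h2 <;> simp_all [coeff_monomial]

/-- The coefficient degrees of a factor are bounded by those of the product. -/
theorem natDegree_coeff_le_of_mul {F : Type*} [Field F] {h h' : F[X][Y]} (hh : h ≠ 0) (hh' : h' ≠ 0)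
    {w : ℕ} (hw : ∀ i, ((h * h').coeff i).natDegree ≤ w) (i : ℕ) : (h.coeff i).natDegree ≤ w := by
  have hne : ∀ q : F[X][Y], q ≠ 0 → Bivariate.swap q ≠ 0 := fun q hq hq' =>
    hq ((map_eq_zero_iff _ (Bivariate.swap (R := F)).injective).1 hq')
  have hmul : (Bivariate.swap (h * h')).natDegree ≤ w := by
    refine natDegree_le_iff_coeff_eq_zero.2 fun j hj => Polynomial.ext fun i => ?_
    rw [coeff_swap, coeff_zero]
    exact coeff_eq_zero_of_natDegree_lt (lt_of_le_of_lt (hw i) hj)
  rw [map_mul, natDegree_mul (hne h hh) (hne h' hh')] at hmul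
  refine natDegree_le_iff_coeff_eq_zero.2 fun j hj => ?_
  rw [← coeff_swap, coeff_eq_zero_of_natDegree_lt (show (Bivariate.swap h).natDegree < j by omega),
    coeff_zero]

/-- The generic monic polynomial of degree `d` with coefficient degrees at most `w`. -/
noncomputable def gen {S : Type*} [CommRing S] (d w : ℕ) (v : Fin d × Fin (w + 1) → S) : S[X][Y] :=
  Polynomial.X ^ d + ∑ i : Fin d, Polynomial.C (∑ j : Fin (w + 1), Polynomial.C (v (i, j)) * Polynomial.X ^ (j : ℕ)) *
    Polynomial.X ^ (i : ℕ)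

theorem map_gen {S T : Type*} [CommRing S] [CommRing T] (φ : S →+* T) (d w : ℕ)
    (v : Fin d × Fin (w + 1) → S) : (gen d w v).map (mapRingHom φ) = gen d w (φ ∘ v) := by
  simp [gen, Polynomial.map_sum]

theorem monic_gen {S : Type*} [CommRing S] (d w : ℕ) (v : Fin d × Fin (w + 1) → S) :
    (gen d w v).Monic := by
  exact monic_X_pow_add (degree_sum_fin_lt _)

theorem natDegree_gen {S : Type*} [CommRing S] [Nontrivial S] (d w : ℕ) (v : Fin d × Fin (w + 1) → S) :
    (gen d w v).natDegree = d := by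
  refine natDegree_eq_of_degree_eq_some ?_
  rw [gen, degree_add_eq_left_of_degree_lt] <;> rw [degree_X_pow]
  exact degree_sum_fin_lt _

theorem eq_gen {S : Type*} [CommRing S] {h : S[X][Y]} (hm : h.Monic) (w : ℕ)
    (hw : ∀ i, (h.coeff i).natDegree ≤ w) :
    h = gen h.natDegree w (fun p => (h.coeff p.1).coeff p.2) := by
  conv_lhs => rw [hm.as_sum]
  refine congrArg (_ + ·) ?_
  rw [← Fin.sum_univ_eq_sum_range (fun i => Polynomial.C (h.coeff i) * Polynomial.X ^ i)]
  refine Finset.sum_congr rfl fun i _ => ?_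
  congr 2
  rw [Fin.sum_univ_eq_sum_range (fun j => Polynomial.C ((h.coeff i).coeff j) * Polynomial.X ^ j)]
  conv_lhs => rw [(h.coeff i).as_sum_range' (w + 1) (Nat.lt_succ_of_le (hw i))]
  exact Finset.sum_congr rfl fun j _ => C_mul_X_pow_eq_monomial.symm

variable {A : Type u} [CommRing A] [IsDomain A] {K1 : Type u} [Field K1] [Algebra A K1]
  [IsFractionRing A K1]

theorem exists_no_split (G : A[X][Y]) (d₁ d₂ w : ℕ) (hd₁ : 0 < d₁) (hd₂ : 0 < d₂)
    (habs : CurveExact.AbsIrr (G.map (mapRingHom (algebraMap A K1)))) :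
    ∃ a : A, a ≠ 0 ∧ ∀ (F : Type u) [Field F] (φ : A →+* F) (h h' : F[X][Y]), φ a ≠ 0 →
      h.Monic → h'.Monic → h.natDegree = d₁ → h'.natDegree = d₂ →
      (∀ i, (h.coeff i).natDegree ≤ w) → (∀ i, (h'.coeff i).natDegree ≤ w) →
      h * h' ≠ G.map (mapRingHom φ) := by
  classical
  let σ := (Fin d₁ × Fin (w + 1)) ⊕ (Fin d₂ × Fin (w + 1))
  let U := MvPolynomial σ A
  let P : U[X][Y] := gen d₁ w (fun p => MvPolynomial.X (Sum.inl p)) *
    gen d₂ w (fun p => MvPolynomial.X (Sum.inr p)) - G.map (mapRingHom MvPolynomial.C)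
  let I : Ideal U := Ideal.span (Set.range fun p : ℕ × ℕ => (P.coeff p.1).coeff p.2)
  have hkill : ∀ (S : Type u) [CommRing S] (ψ : U →+* S), P.map (mapRingHom ψ) = 0 → I ≤ RingHom.ker ψ := by
    intro S _ ψ h0
    rw [Ideal.span_le]
    rintro _ ⟨⟨i, j⟩, rfl⟩
    have h := congrArg (fun q : S[X][Y] => (q.coeff i).coeff j) h0
    simpa [coeff_map] using h
  let M := MvPolynomial σ K1
  letI : Algebra U M := MvPolynomial.algebraMvPolynomial
  haveI : IsLocalization (Submonoid.map (MvPolynomial.C (σ := σ)) (nonZeroDivisors A)) M :=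
    MvPolynomial.isLocalization (nonZeroDivisors A) K1
  have htop : I.map (algebraMap U M) = ⊤ := by
    by_contra hne
    obtain ⟨m, hm, hle⟩ := Ideal.exists_le_maximal _ hne
    letI : Field (M ⧸ m) := Ideal.Quotient.field m
    haveI : Algebra.FiniteType K1 (M ⧸ m) :=
      (inferInstance : Algebra.FiniteType K1 M).of_surjective (Ideal.Quotient.mkₐ K1 m)
        (Ideal.Quotient.mkₐ_surjective K1 m)
    haveI : FiniteDimensional K1 (M ⧸ m) := finite_of_finite_type_of_isJacobsonRing K1 (M ⧸ m)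
    let ψ : U →+* M ⧸ m := (Ideal.Quotient.mk m).comp (algebraMap U M)
    have hψI : ∀ x ∈ I, ψ x = 0 := fun x hx =>
      Ideal.Quotient.eq_zero_iff_mem.2 (hle (Ideal.mem_map_of_mem _ hx))
    have hP0 : P.map (mapRingHom ψ) = 0 := by
      refine Polynomial.ext fun i => Polynomial.ext fun j => ?_
      simpa [coeff_map] using hψI _ (Ideal.subset_span ⟨(i, j), rfl⟩)
    have hC : (ψ.comp MvPolynomial.C) = (algebraMap K1 (M ⧸ m)).comp (algebraMap A K1) :=
      RingHom.ext fun r => by
        show Ideal.Quotient.mk m (MvPolynomial.map (algebraMap A K1) (MvPolynomial.C r)) = _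
        rw [MvPolynomial.map_C]
        rfl
    rw [Polynomial.map_sub, Polynomial.map_mul, map_gen, map_gen, Polynomial.map_map,
      mapRingHom_comp, hC, ← mapRingHom_comp, ← Polynomial.map_map, sub_eq_zero] at hP0
    rcases (habs (M ⧸ m) inferInstance).isUnit_or_isUnit hP0.symm with h | h
    · have := natDegree_eq_zero_of_isUnit h
      rw [natDegree_gen] at this
      omega
    · have := natDegree_eq_zero_of_isUnit h
      rw [natDegree_gen] at this
      omega
  obtain ⟨⟨x, s⟩, hxs⟩ := (IsLocalization.mem_map_algebraMap_iff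
    (Submonoid.map (MvPolynomial.C (σ := σ)) (nonZeroDivisors A)) M).1
    (htop ▸ (Submodule.mem_top : (1 : M) ∈ (⊤ : Ideal M)))
  obtain ⟨a, ha, has⟩ := s.2
  refine ⟨a, nonZeroDivisors.ne_zero ha, fun F _ φ h h' hφa hm hm' hd hd' hw hw' heq => hφa ?_⟩
  have hinj : Function.Injective (algebraMap U M) :=
    MvPolynomial.map_injective _ (IsFractionRing.injective A K1)
  have hsI : (s : U) ∈ I := by
    rw [one_mul] at hxs
    rw [hinj hxs]
    exact x.2
  subst hd hd'
  let v : σ → F := Sum.elim (fun p => (h.coeff p.1).coeff p.2) (fun p => (h'.coeff p.1).coeff p.2)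
  let ψ : U →+* F := MvPolynomial.eval₂Hom φ v
  have hP0 : P.map (mapRingHom ψ) = 0 := by
    have hC : ψ.comp MvPolynomial.C = φ := RingHom.ext fun r => MvPolynomial.eval₂Hom_C φ v r
    have h1 : (ψ ∘ fun p => MvPolynomial.X (Sum.inl p)) = fun p => (h.coeff p.1).coeff p.2 :=
      funext fun p => MvPolynomial.eval₂Hom_X' φ v _
    have h2 : (ψ ∘ fun p => MvPolynomial.X (Sum.inr p)) = fun p => (h'.coeff p.1).coeff p.2 :=
      funext fun p => MvPolynomial.eval₂Hom_X' φ v _
    rw [Polynomial.map_sub, Polynomial.map_mul, map_gen, map_gen, Polynomial.map_map,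
      mapRingHom_comp, hC, h1, h2, ← eq_gen hm w hw, ← eq_gen hm' w hw', heq, sub_self]
  have h3 : ψ (s : U) = 0 := hkill F ψ hP0 hsI
  rw [← has] at h3
  exact (MvPolynomial.eval₂Hom_C φ v a).symm.trans h3

/-- Irreducibility over every field of a specialisation off the zeros of some `a ≠ 0`. -/
theorem exists_absIrr (G : A[X][Y]) (hG : G.Monic)
    (habs : CurveExact.AbsIrr (G.map (mapRingHom (algebraMap A K1)))) :
    ∃ a : A, a ≠ 0 ∧ ∀ (F : Type u) [Field F] (φ : A →+* F), φ a ≠ 0 →
      CurveExact.AbsIrr (G.map (mapRingHom φ)) := by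
  classical
  set D := G.natDegree with hDdef
  have hD : 0 < D := by
    rcases Nat.eq_zero_or_pos D with h | h
    · have h1 := habs K1 inferInstance
      rw [hG.natDegree_eq_zero.1 h] at h1
      simp at h1
    · exact h
  let w := (Finset.range (D + 1)).sup fun i => (G.coeff i).natDegree
  have hchoice : ∀ d₁ : ℕ, ∃ a : A, a ≠ 0 ∧ ∀ (F : Type u) [Field F] (φ : A →+* F) (h h' : F[X][Y]),
      φ a ≠ 0 → h.Monic → h'.Monic → h.natDegree = d₁ → h'.natDegree = D - d₁ → 0 < d₁ → d₁ < D →
      (∀ i, (h.coeff i).natDegree ≤ w) → (∀ i, (h'.coeff i).natDegree ≤ w) →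
      h * h' ≠ G.map (mapRingHom φ) := by
    intro d₁
    by_cases hd : 0 < d₁ ∧ d₁ < D
    · obtain ⟨a, ha, h⟩ := exists_no_split (K1 := K1) G d₁ (D - d₁) w hd.1 (by omega) habs
      exact ⟨a, ha, fun F _ φ p p' h1 h2 h3 h4 h5 _ _ => h F φ p p' h1 h2 h3 h4 h5⟩
    · exact ⟨1, one_ne_zero, fun F _ φ p p' _ _ _ _ _ h1 h2 => absurd ⟨h1, h2⟩ hd⟩
  choose a ha hsplit using hchoice
  refine ⟨∏ d ∈ Finset.range (D + 1), a d, Finset.prod_ne_zero_iff.2 fun d _ => ha d,
    fun F _ φ hφ k' _ _ _ => ?_⟩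
  rw [Polynomial.map_map, mapRingHom_comp]
  set φ' := (algebraMap F k').comp φ
  have hm : (G.map (mapRingHom φ')).Monic := hG.map _
  have hdeg : (G.map (mapRingHom φ')).natDegree = D := hG.natDegree_map _
  rw [hm.irreducible_iff_natDegree]
  refine ⟨fun h1 => by rw [h1, natDegree_one] at hdeg; omega, fun p p' hp hp' hpp => ?_⟩
  by_contra hne
  rw [not_or] at hne
  have hsum : p.natDegree + p'.natDegree = D := by
    rw [← hdeg, ← hpp, hp.natDegree_mul hp']
  have hwG : ∀ i, ((p * p').coeff i).natDegree ≤ w := fun i => by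
    rw [hpp, coeff_map]
    by_cases hi : i ≤ D
    · exact natDegree_map_le.trans (Finset.le_sup (f := fun i => (G.coeff i).natDegree)
        (Finset.mem_range.2 (Nat.lt_succ_of_le hi)))
    · rw [coeff_eq_zero_of_natDegree_lt (not_le.1 hi), map_zero, natDegree_zero]
      exact Nat.zero_le _
  have hφ' : φ' (a p.natDegree) ≠ 0 := fun h0 => hφ (by
    have h1 : φ (a p.natDegree) = 0 := (map_eq_zero (algebraMap F k')).1 h0
    rw [map_prod]
    exact Finset.prod_eq_zero (Finset.mem_range.2 (by omega)) h1)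
  refine hsplit p.natDegree k' φ' p p' hφ' hp hp' rfl (by omega) (by omega) (by omega)
    (natDegree_coeff_le_of_mul hp.ne_zero hp'.ne_zero hwG)
    (natDegree_coeff_le_of_mul hp'.ne_zero hp.ne_zero (by rwa [mul_comm])) hpp

end Groth.Agent.Lib.LangWeil.Spread
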