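import Groth.Agent.Lib.LangWeil.Fibration
import Groth.Agent.Lib.LangWeil.Spread
import Groth.Agent.Lib.LangWeil.Birational

/-!
The Lang–Weil estimate for function fields with exact field of constants.
-/

set_option autoImplicit false
set_option linter.style.haveILetI false

namespace Groth.Agent.Lib.LangWeil.Induct

open Polynomial IntermediateField Birational
open scoped Polynomial.Bivariate

universe u

theorem exists_lift {A K1 : Type*} [CommRing A] [CommRing K1] (ι : A →+* K1) (q : K1[X][Y])
    (h : ∀ i j, (q.coeff i).coeff j ∈ ι.range) : q ∈ Polynomial.lifts (mapRingHom ι) := by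
  rw [lifts_iff_coeff_lifts]
  intro i
  have : q.coeff i ∈ Polynomial.lifts ι := by
    rw [lifts_iff_coeff_lifts]
    exact fun j => h i j
  exact (mem_lifts _).1 this

/-- Estimate for one model, by fibring into curves. -/
theorem exists_model_estimate (n : ℕ) : ∀ (k : Type u) [Field k] [Finite k] (K : Type u) [Field K]
    [Algebra k K] [Algebra.EssFiniteType k K], Algebra.trdeg k K = n →
    (∀ z : K, IsAlgebraic k z → z ∈ Set.range (algebraMap k K)) →
    ∃ A : Subalgebra k K, IsModel A ∧ ∃ α : ℝ, ∀ (F : Type u) [Field F] [Algebra k F] [Finite F],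
      |(Nat.card (A →ₐ[k] F) : ℝ) - (Nat.card F : ℝ) ^ n| * Real.sqrt (Nat.card F) ≤
        α * (Nat.card F : ℝ) ^ n := by
  induction n with
  | zero =>
    intro k _ _ K _ _ _ hn hcl
    haveI : Algebra.IsAlgebraic k K := by
      rw [← trdeg_eq_zero_iff (R := k) (A := K)]
      exact_mod_cast hn
    refine ⟨⊥, ⟨Subalgebra.fg_bot, top_le_iff.1 fun z _ => ?_⟩, 0, fun F _ _ _ => ?_⟩
    · obtain ⟨c, rfl⟩ := hcl z (Algebra.IsAlgebraic.isAlgebraic z)
      exact IntermediateField.algebraMap_mem _ c
    · let e : (⊥ : Subalgebra k K) ≃ₐ[k] k := Algebra.botEquiv k K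
      have h1 : Nat.card ((⊥ : Subalgebra k K) →ₐ[k] F) = 1 := by
        rw [Nat.card_congr (e.arrowCongr (AlgEquiv.refl : F ≃ₐ[k] F)), Nat.card_unique]
      rw [h1]
      simp
  | succ n ih =>
    intro k _ _ K _ _ _ hn hcl
    classical
    obtain ⟨K1, _, _, _, _, t, y, g, a, b, hh, hK1, htr1, hgm, habs, hh0, hab, ht, htop, hgy, hdvd⟩ :=
      Fibration.exists_fibration (k := k) (K := K) n hn
    haveI := hK1
    have hcl1 : ∀ z : K1, IsAlgebraic k z → z ∈ Set.range (algebraMap k K1) := fun z hz => by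
      obtain ⟨c, hc⟩ := hcl _ (hz.algHom (IsScalarTower.toAlgHom k K1 K))
      exact ⟨c, (algebraMap K1 K).injective (by rw [← IsScalarTower.algebraMap_apply, hc]; rfl)⟩
    obtain ⟨A', hA', hest'⟩ := ih k K1 htr1 hcl1
    -- the coefficient ring
    let co : K1[X][Y] → Finset K1 := fun q => q.support.biUnion fun i => (q.coeff i).support.image (q.coeff i).coeff
    obtain ⟨S0, hS0⟩ := hA'.1
    let A1 : Subalgebra k K1 := Algebra.adjoin k
      ((S0 ∪ co g ∪ co a ∪ co b ∪ co (Polynomial.C hh) : Finset K1) : Set K1)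
    have hmodel : ∀ B : Subalgebra k K1, A' ≤ B → B.FG → IsModel B := fun B h1 h2 =>
      ⟨h2, top_le_iff.1 (hA'.2.symm.le.trans (IntermediateField.adjoin.mono k _ _ (SetLike.coe_subset_coe.2 h1)))⟩
    have hA'1 : A' ≤ A1 := by
      rw [← hS0]
      refine Algebra.adjoin_mono ?_
      intro z hz
      simp only [Finset.coe_union, Set.mem_union]
      exact Or.inl (Or.inl (Or.inl (Or.inl hz)))
    have hA1 : IsModel A1 := hmodel A1 hA'1 (Subalgebra.fg_adjoin_finset _)
    haveI := hA1.isFractionRing
    let ι : A1 →+* K1 := algebraMap A1 K1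
    have hco : ∀ q : K1[X][Y], (co q : Set K1) ⊆ A1 → ∀ i j, (q.coeff i).coeff j ∈ ι.range := fun q hq i j => by
      by_cases h0 : (q.coeff i).coeff j = 0
      · exact ⟨0, by rw [map_zero, h0]⟩
      · refine ⟨⟨_, hq (Finset.mem_biUnion.2 ⟨i, Polynomial.mem_support_iff.2 fun h => h0 (by rw [h, coeff_zero]),
          Finset.mem_image.2 ⟨j, Polynomial.mem_support_iff.2 h0, rfl⟩⟩)⟩, rfl⟩
    have hsub : ∀ s : Finset K1, s ⊆ S0 ∪ co g ∪ co a ∪ co b ∪ co (Polynomial.C hh) → (s : Set K1) ⊆ A1 :=
      fun s hs z hz => Algebra.subset_adjoin (Finset.coe_subset.2 hs hz)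
    obtain ⟨G, hG, hGdeg, hGm⟩ := lifts_and_natDegree_eq_and_monic
      (exists_lift ι g (hco g (hsub _ (by intro z hz; simp [hz])))) hgm
    obtain ⟨a', ha'⟩ := (mem_lifts _).1 (exists_lift ι a (hco a (hsub _ (by intro z hz; simp [hz]))))
    obtain ⟨b', hb'⟩ := (mem_lifts _).1 (exists_lift ι b (hco b (hsub _ (by intro z hz; simp [hz]))))
    obtain ⟨h', hh'⟩ := (mem_lifts _).1
      (exists_lift ι (Polynomial.C hh) (hco _ (hsub _ (by intro z hz; simp [hz]))))
    have hh'' : (h'.coeff 0).map ι = hh := by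
      have := congrArg (fun q : K1[X][Y] => q.coeff 0) hh'
      simpa [coeff_map] using this
    set H := h'.coeff 0
    have hι : Function.Injective ι := Subtype.val_injective
    have hGid : a' * G + b' * G.derivative = Polynomial.C H := by
      apply Polynomial.map_injective (mapRingHom ι) (Polynomial.map_injective ι hι)
      rw [Polynomial.map_add, Polynomial.map_mul, Polynomial.map_mul, ← Polynomial.derivative_map, ha',
        hb', hG, hab, Polynomial.map_C]
      exact congrArg Polynomial.C hh''.symm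
    have hH : H ≠ 0 := fun h => hh0 (by rw [← hh'', h, Polynomial.map_zero])
    obtain ⟨c₀, hc₀, hspread⟩ := Spread.exists_absIrr (K1 := K1) G hGm (by
      show CurveExact.AbsIrr (G.map (mapRingHom ι))
      rw [hG]; exact habs)
    let c : A1 := c₀ * H.leadingCoeff
    have hc : c ≠ 0 := mul_ne_zero hc₀ (leadingCoeff_ne_zero.2 hH)
    have hcK : (c : K1) ≠ 0 := fun h => hc (Subtype.ext h)
    let A2 : Subalgebra k K1 := A1 ⊔ Algebra.adjoin k {((c : K1))⁻¹}
    have hA2 : IsModel A2 := hmodel A2 (hA'1.trans le_sup_left)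
      (hA1.1.sup (by simpa using Subalgebra.fg_adjoin_finset ({((c : K1))⁻¹} : Finset K1)))
    obtain ⟨α, hα⟩ := transfer hA' hA2 n htr1 hest'
    let inc : A1 →ₐ[k] A2 := Subalgebra.inclusion le_sup_left
    -- the model of `K`
    let G2 : A2[X][Y] := G.map (mapRingHom inc.toRingHom)
    let ι2 : A2 →+* K1 := algebraMap A2 K1
    have hG2g : G2.map (mapRingHom ι2) = g := by
      rw [Polynomial.map_map, mapRingHom_comp, ← hG]
      rfl
    let e2 : A2[X] →+* K := (Polynomial.aeval t : K1[X] →ₐ[K1] K).toRingHom.comp (mapRingHom ι2)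
    have he2 : ∀ q : A2[X][Y], q.eval₂ e2 y =
        (q.map (mapRingHom ι2)).eval₂ (Polynomial.aeval t : K1[X] →ₐ[K1] K).toRingHom y := fun q => by
      rw [Polynomial.eval₂_map]
    have hroot : G2.eval₂ e2 y = 0 := by rw [he2, hG2g, hgy]
    let R := AdjoinRoot G2
    let σ : R →ₐ[k] K :=
      { AdjoinRoot.lift e2 y hroot with
        commutes' := fun r => by
          show AdjoinRoot.lift e2 y hroot (algebraMap k R r) = _
          rw [IsScalarTower.algebraMap_apply k A2[X] R, AdjoinRoot.algebraMap_eq, AdjoinRoot.lift_of]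
          show Polynomial.aeval t ((algebraMap k A2[X] r).map ι2) = _
          rw [IsScalarTower.algebraMap_apply k A2 A2[X], Polynomial.algebraMap_eq, Polynomial.map_C,
            Polynomial.aeval_C]
          exact (IsScalarTower.algebraMap_apply k K1 K r).symm }
    have hσ : Function.Injective σ := by
      rw [injective_iff_map_eq_zero]
      intro r hr
      obtain ⟨q, rfl⟩ := AdjoinRoot.mk_surjective r
      refine AdjoinRoot.mk_eq_zero.2 ?_
      have h0 : q.eval₂ e2 y = 0 := (AdjoinRoot.lift_mk hroot q).symm.trans hr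
      refine (Polynomial.map_dvd_map (mapRingHom ι2) (Polynomial.map_injective ι2 Subtype.val_injective)
        (hGm.map _)).1 ?_
      show G2.map (mapRingHom ι2) ∣ _
      rw [hG2g]
      exact hdvd _ (by rw [← he2]; exact h0)
    have hmemA2 : ∀ z : A2, algebraMap K1 K z ∈ σ.range := fun z => ⟨AdjoinRoot.of G2 (Polynomial.C z), by
      show AdjoinRoot.lift e2 y hroot (AdjoinRoot.of G2 (Polynomial.C z)) = _
      rw [AdjoinRoot.lift_of]
      show Polynomial.aeval t ((Polynomial.C z).map ι2) = _
      rw [Polynomial.map_C, Polynomial.aeval_C]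
      rfl⟩
    have hmemt : t ∈ σ.range := ⟨AdjoinRoot.of G2 Polynomial.X, by
      show AdjoinRoot.lift e2 y hroot (AdjoinRoot.of G2 Polynomial.X) = _
      rw [AdjoinRoot.lift_of]
      show Polynomial.aeval t ((Polynomial.X : A2[X]).map ι2) = _
      rw [Polynomial.map_X, Polynomial.aeval_X]⟩
    have hmemy : y ∈ σ.range := ⟨AdjoinRoot.root G2, AdjoinRoot.lift_root hroot⟩
    haveI : Algebra.FiniteType k A2 := hA2.finiteType
    haveI : Algebra.FiniteType k A2[X] := Algebra.FiniteType.trans (S := A2) inferInstance inferInstance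
    haveI : Algebra.FiniteType k R := (inferInstance : Algebra.FiniteType k A2[X][Y]).of_surjective
      ({ AdjoinRoot.mk G2 with
          commutes' := fun r => by
            show AdjoinRoot.mk G2 (algebraMap k A2[X][Y] r) = algebraMap k R r
            rw [IsScalarTower.algebraMap_apply k A2[X] A2[X][Y], Polynomial.algebraMap_eq,
              IsScalarTower.algebraMap_apply k A2[X] R, AdjoinRoot.algebraMap_eq, AdjoinRoot.mk_C] } :
        A2[X][Y] →ₐ[k] R) AdjoinRoot.mk_surjective
    have hB : IsModel σ.range := by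
      refine ⟨by rw [← Algebra.map_top]; exact Algebra.FiniteType.out.map σ, top_le_iff.1 ?_⟩
      intro z _
      let M := IntermediateField.adjoin k (σ.range : Set K)
      have h1 : ∀ w : K1, algebraMap K1 K w ∈ M := fun w => by
        obtain ⟨p, q, hq, hpq⟩ := hA2.exists_div w
        have hw : w = (p : K1) / q := by
          rw [eq_div_iff fun h => hq (Subtype.ext h), hpq]
        rw [hw, map_div₀]
        exact div_mem (IntermediateField.subset_adjoin k _ (hmemA2 p))
          (IntermediateField.subset_adjoin k _ (hmemA2 q))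
      let N : IntermediateField K1 K := M.toSubfield.toIntermediateField h1
      have : (⊤ : IntermediateField K1 K) ≤ N := by
        rw [← htop, IntermediateField.adjoin_le_iff]
        rintro w (rfl | rfl)
        · exact IntermediateField.subset_adjoin k _ hmemt
        · exact IntermediateField.subset_adjoin k _ hmemy
      exact this IntermediateField.mem_top
    -- constants
    let D := G.natDegree
    let w := (Finset.range (D + 1)).sup fun i => (G.coeff i).natDegree
    let c1 : ℝ := 2 * (1 + w * D ^ 2) + 1 + D * (1 + H.natDegree) + D * H.natDegree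
    refine ⟨σ.range, hB, (1 + α) * c1 + α, fun F _ _ _ => ?_⟩
    haveI := Fintype.ofFinite F
    obtain ⟨C₂, hC₂⟩ := exists_bound (k := k) A2 n (hA2.ringKrullDim_eq n htr1).le
    haveI := (hC₂ F).1
    haveI := Fintype.ofFinite (A2 →ₐ[k] F)
    let V : (A2 →ₐ[k] F) → Type u := fun φ =>
      {p : F × F // (G2.map (mapRingHom φ.toRingHom)).evalEval p.1 p.2 = 0}
    have hev : ∀ (φ : A2 →ₐ[k] F) (t₀ y₀ : F) (q : A2[X][Y]),
        q.eval₂ (Polynomial.eval₂RingHom φ.toRingHom t₀) y₀ = (q.map (mapRingHom φ.toRingHom)).evalEval t₀ y₀ := by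
      intro φ t₀ y₀ q
      rw [← map_evalRingHom_eval, Polynomial.map_map, Polynomial.eval_map]
      refine congrArg (fun f => Polynomial.eval₂ f y₀ q) (Polynomial.ringHom_ext (fun r => ?_) ?_) <;> simp
    let Φ : (R →ₐ[k] F) → Σ φ : A2 →ₐ[k] F, V φ := fun ψ =>
      ⟨(ψ.comp (IsScalarTower.toAlgHom k A2[X] R)).comp (IsScalarTower.toAlgHom k A2 A2[X]),
        ⟨(ψ (AdjoinRoot.of G2 Polynomial.X), ψ (AdjoinRoot.root G2)), by
          rw [← hev]
          have h := congrArg ψ (AdjoinRoot.eval₂_root G2)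
          rw [map_zero] at h
          refine Eq.trans ?_ h
          refine Eq.trans ?_ (Polynomial.hom_eval₂ G2 (AdjoinRoot.of G2) ψ.toRingHom (AdjoinRoot.root G2)).symm
          refine congrArg (fun f => Polynomial.eval₂ f _ G2) (Polynomial.ringHom_ext (fun r => ?_) ?_)
          · simp
            rw [AdjoinRoot.algebraMap_eq]
          · simp⟩⟩
    have hΦ : Function.Bijective Φ := by
      refine ⟨fun ψ ψ' h => ?_, fun z => ?_⟩
      · have h1 := congrArg Sigma.fst h
        have h2 : (Φ ψ).2.1 = (Φ ψ').2.1 := congrArg (fun z : Σ φ : A2 →ₐ[k] F, V φ => z.2.1) h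
        refine AlgHom.ext fun r => RingHom.congr_fun (f := ψ.toRingHom) (g := ψ'.toRingHom) ?_ r
        refine Ideal.Quotient.ringHom_ext (Polynomial.ringHom_ext' (Polynomial.ringHom_ext (fun s => ?_) ?_) ?_)
        · exact AlgHom.congr_fun h1 s
        · exact congrArg Prod.fst h2
        · exact congrArg Prod.snd h2
      · obtain ⟨φ, ⟨t₀, y₀⟩, hp⟩ := z
        have hr : G2.eval₂ (Polynomial.eval₂RingHom φ.toRingHom t₀) y₀ = 0 := (hev φ t₀ y₀ G2).trans hp
        let ψ : R →ₐ[k] F :=
          { AdjoinRoot.lift (Polynomial.eval₂RingHom φ.toRingHom t₀) y₀ hr with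
            commutes' := fun r => by
              show AdjoinRoot.lift _ y₀ hr (algebraMap k R r) = _
              rw [IsScalarTower.algebraMap_apply k A2[X] R, AdjoinRoot.algebraMap_eq, AdjoinRoot.lift_of,
                IsScalarTower.algebraMap_apply k A2 A2[X], Polynomial.algebraMap_eq]
              simp }
        refine ⟨ψ, ?_⟩
        have h1 : (Φ ψ).1 = φ := AlgHom.ext fun s => by
          show AdjoinRoot.lift _ y₀ hr (algebraMap A2[X] R (algebraMap A2 A2[X] s)) = _
          rw [AdjoinRoot.algebraMap_eq, AdjoinRoot.lift_of, Polynomial.algebraMap_eq]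
          simp
        have h2 : (Φ ψ).2.1 = (t₀, y₀) := Prod.ext
          ((AdjoinRoot.lift_of hr).trans (by simp)) (AdjoinRoot.lift_root hr)
        obtain ⟨φ', p', hp'⟩ : ∃ φ' p', Φ ψ = ⟨φ', p'⟩ := ⟨_, _, rfl⟩
        rw [hp'] at h1 h2 ⊢
        simp only at h1 h2
        subst h1
        exact Sigma.ext rfl (heq_of_eq (Subtype.ext h2))
    have hcard : Nat.card (σ.range →ₐ[k] F) = ∑ φ : A2 →ₐ[k] F, Nat.card (V φ) := by
      rw [Nat.card_congr ((AlgEquiv.ofInjective σ hσ).symm.arrowCongr (AlgEquiv.refl : F ≃ₐ[k] F)),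
        Nat.card_congr (Equiv.ofBijective Φ hΦ), Nat.card_sigma]
    -- each fibre
    set s := Real.sqrt (Nat.card F) with hs_def
    have hs1 : 1 ≤ s := by
      refine Real.one_le_sqrt.2 ?_
      exact_mod_cast Finite.one_lt_card.le
    have hfib : ∀ φ : A2 →ₐ[k] F, |(Nat.card (V φ) : ℝ) - Nat.card F| ≤ c1 * s := by
      intro φ
      let φ1 : A1 →+* F := φ.toRingHom.comp inc.toRingHom
      have hcne : φ1 c ≠ 0 := by
        intro h0
        have h1 : inc c * ⟨((c : K1))⁻¹, (le_sup_right : _ ≤ A2) (Algebra.subset_adjoin rfl)⟩ = 1 :=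
          Subtype.ext (mul_inv_cancel₀ hcK)
        have := congrArg φ h1
        rw [map_mul, map_one, show φ (inc c) = 0 from h0, zero_mul] at this
        exact zero_ne_one this
      simp only [c, map_mul] at hcne
      have habsφ := hspread F φ1 (left_ne_zero_of_mul hcne)
      have hHφ : H.map φ1 ≠ 0 := fun h => right_ne_zero_of_mul hcne (by
        have := congrArg (fun q : F[X] => q.coeff H.natDegree) h
        simpa [coeff_map] using this)
      let Sb := (H.map φ1).roots.toFinset
      have hGφ : G2.map (mapRingHom φ.toRingHom) = G.map (mapRingHom φ1) := by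
        rw [Polynomial.map_map, mapRingHom_comp]
      have hsmooth : ∀ t₀ y₀ : F, t₀ ∉ Sb → (G.map (mapRingHom φ1)).evalEval t₀ y₀ = 0 →
          (G.map (mapRingHom φ1)).derivative.evalEval t₀ y₀ ≠ 0 := fun t₀ y₀ ht₀ h0 h1 => ht₀ (by
        have h := congrArg (fun q : A1[X][Y] => (q.map (mapRingHom φ1)).evalEval t₀ y₀) hGid
        simp only [Polynomial.map_add, Polynomial.map_mul, evalEval_add, evalEval_mul,
          ← Polynomial.derivative_map, h0, h1, mul_zero, add_zero, Polynomial.map_C] at h
        rw [Multiset.mem_toFinset, mem_roots hHφ, IsRoot]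
        simpa [evalEval] using h.symm)
      have hwG : ∀ i, ((G.map (mapRingHom φ1)).coeff i).natDegree ≤ w := fun i => by
        rw [coeff_map]
        by_cases hi : i ≤ D
        · exact natDegree_map_le.trans (Finset.le_sup (f := fun i => (G.coeff i).natDegree)
            (Finset.mem_range.2 (Nat.lt_succ_of_le hi)))
        · rw [coeff_eq_zero_of_natDegree_lt (not_le.1 hi), map_zero, natDegree_zero]
          exact Nat.zero_le _
      have hcount := CurveExact.card_points (hGm.map _) habsφ (D := D) (w := w) natDegree_map_le hwG Sb hsmooth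
      have hSb : Sb.card ≤ H.natDegree :=
        (Multiset.toFinset_card_le _).trans ((card_roots' _).trans natDegree_map_le)
      let W : Finset (F × F) := Finset.univ.filter fun p => (G.map (mapRingHom φ1)).evalEval p.1 p.2 = 0
      have hV : Nat.card (V φ) = W.card := by
        simp only [V, hGφ]
        rw [Nat.card_eq_fintype_card, Fintype.card_subtype]
      have hW1 : Nat.card {p : F × F // p.1 ∉ Sb ∧ (G.map (mapRingHom φ1)).evalEval p.1 p.2 = 0} =
          (W.filter fun p => p.1 ∉ Sb).card := by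
        rw [Nat.card_eq_fintype_card, Fintype.card_subtype, Finset.filter_filter]
        exact congrArg Finset.card (Finset.filter_congr fun p _ => and_comm)
      have hW2 : (W.filter fun p => p.1 ∈ Sb).card ≤ D * Sb.card := by
        rw [mul_comm]
        refine le_trans ?_ (Finset.card_biUnion_le_card_mul Sb
          (fun a => ((G.map (mapRingHom φ1)).map (evalRingHom a)).roots.toFinset.image fun b => (a, b)) D ?_)
        · refine Finset.card_le_card fun p hp => ?_
          obtain ⟨hpW, hpS⟩ := Finset.mem_filter.1 hp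
          refine Finset.mem_biUnion.2 ⟨p.1, hpS, Finset.mem_image.2 ⟨p.2, ?_, rfl⟩⟩
          rw [Multiset.mem_toFinset, mem_roots ((hGm.map _).map _).ne_zero, IsRoot, map_evalRingHom_eval]
          exact (Finset.mem_filter.1 hpW).2
        · intro a _
          exact Finset.card_image_le.trans ((Multiset.toFinset_card_le _).trans ((card_roots' _).trans
            (natDegree_map_le.trans natDegree_map_le)))
      rw [hW1, ← hs_def] at hcount
      rw [hV, ← Finset.card_filter_add_card_filter_not (s := W) (fun p => p.1 ∈ Sb), Nat.cast_add]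
      have e1 : ((W.filter fun p => p.1 ∈ Sb).card : ℝ) ≤ D * H.natDegree := by
        exact_mod_cast hW2.trans (Nat.mul_le_mul_left D hSb)
      have e2 : (Sb.card : ℝ) ≤ H.natDegree := by exact_mod_cast hSb
      have e3 : (0 : ℝ) ≤ D := Nat.cast_nonneg _
      have e4 : (0 : ℝ) ≤ (W.filter fun p => p.1 ∈ Sb).card := Nat.cast_nonneg _
      have e5 : (D : ℝ) * H.natDegree ≤ D * H.natDegree * s := le_mul_of_one_le_right (by positivity) hs1
      have e6 : (D : ℝ) * Sb.card * s ≤ D * H.natDegree * s :=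
        mul_le_mul_of_nonneg_right (mul_le_mul_of_nonneg_left e2 e3) (by positivity)
      obtain ⟨l1, l2⟩ := abs_le.1 hcount
      rw [abs_le]
      simp only [c1]
      constructor <;> nlinarith
    have hmain : |(Nat.card (σ.range →ₐ[k] F) : ℝ) - Nat.card (A2 →ₐ[k] F) * Nat.card F| ≤
        Nat.card (A2 →ₐ[k] F) * (c1 * s) := by
      rw [hcard, Nat.cast_sum, Nat.card_eq_fintype_card (α := A2 →ₐ[k] F), ← Finset.card_univ,
        ← nsmul_eq_mul, ← Finset.sum_const, ← Finset.sum_sub_distrib, ← nsmul_eq_mul, ← Finset.sum_const]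
      exact (Finset.abs_sum_le_sum_abs _ _).trans (Finset.sum_le_sum fun φ _ => hfib φ)
    have hα' := hα F
    set Q : ℝ := (Nat.card F : ℝ)
    set N1 : ℝ := (Nat.card (A2 →ₐ[k] F) : ℝ)
    set NB : ℝ := (Nat.card (σ.range →ₐ[k] F) : ℝ)
    have hss : s * s = Q := Real.mul_self_sqrt (Nat.cast_nonneg _)
    have hQ0 : 0 ≤ Q := Nat.cast_nonneg _
    have hc10 : 0 ≤ c1 := by positivity
    have hpow : 0 ≤ Q ^ n := pow_nonneg hQ0 n
    have hN1 : N1 ≤ (1 + α) * Q ^ n := by
      have h1 : |N1 - Q ^ n| ≤ |N1 - Q ^ n| * s := le_mul_of_one_le_right (abs_nonneg _) hs1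
      have := le_abs_self (N1 - Q ^ n)
      linarith
    have h1 : |NB - Q ^ (n + 1)| ≤ N1 * (c1 * s) + |N1 - Q ^ n| * Q := by
      calc |NB - Q ^ (n + 1)| ≤ |NB - N1 * Q| + |N1 * Q - Q ^ (n + 1)| := abs_sub_le _ _ _
        _ ≤ _ := by
          refine add_le_add hmain (le_of_eq ?_)
          rw [pow_succ, ← sub_mul, abs_mul, abs_of_nonneg hQ0]
    have h2 := mul_le_mul_of_nonneg_right h1 (show 0 ≤ s by linarith)
    have h3 : N1 * (c1 * s) * s ≤ (1 + α) * c1 * (Q ^ n * Q) := by
      rw [mul_assoc, mul_assoc c1, hss]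
      calc N1 * (c1 * Q) ≤ (1 + α) * Q ^ n * (c1 * Q) := mul_le_mul_of_nonneg_right hN1 (by positivity)
        _ = _ := by ring
    have h4 : |N1 - Q ^ n| * Q * s ≤ α * (Q ^ n * Q) := by
      calc |N1 - Q ^ n| * Q * s = |N1 - Q ^ n| * s * Q := by ring
        _ ≤ α * Q ^ n * Q := mul_le_mul_of_nonneg_right hα' hQ0
        _ = _ := by ring
    rw [add_mul] at h2
    rw [pow_succ] at h2 ⊢
    linarith

/-- **Lang–Weil** for an affine model of a function field with exact constants. -/
theorem estimate {k : Type u} [Field k] [Finite k] {K : Type u} [Field K] [Algebra k K]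
    [Algebra.EssFiniteType k K] (n : ℕ) (hn : Algebra.trdeg k K = n)
    (hcl : ∀ z : K, IsAlgebraic k z → z ∈ Set.range (algebraMap k K))
    {B : Subalgebra k K} (hB : IsModel B) :
    ∃ α : ℝ, ∀ (F : Type u) [Field F] [Algebra k F] [Finite F],
      |(Nat.card (B →ₐ[k] F) : ℝ) - (Nat.card F : ℝ) ^ n| * Real.sqrt (Nat.card F) ≤
        α * (Nat.card F : ℝ) ^ n := by
  obtain ⟨A, hA, hest⟩ := exists_model_estimate n k K hn hcl
  exact transfer hA hB n hn hest

end Groth.Agent.Lib.LangWeil.Induct
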